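import Cfsg.Agent.Lib.Recog.McL275.LocalFacts
import Mathlib.GroupTheory.GroupAction.Quotient

/-! An action of the permutation model of `PSU₄(3)` with an orbit of length 112 is the given one there. -/

set_option autoImplicit false
set_option maxRecDepth 100000
set_option Elab.async false

namespace CfsgLib.Recog.McL275

open CfsgLib.KnownA.PermCert CfsgLib.KnownA.U4ThreeSchur

/-- A union of orbits of the 3-subgroup containing the first point. -/
def unionOf (a b c : Bool) : Finset (Fin 112) :=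
  Finset.univ.filter fun i : Fin 112 => ((i : ℕ) = 0 ∨ (a && mask27.testBit i) = true ∨
    (b && mask81.testBit i) = true ∨ (c && mask3.testBit i) = true)

theorem union_sizes : ∀ a b c : Bool, (unionOf a b c).card ∣ 360 → a = false ∧ b = false := by
  decide +kernel

theorem union_small : (unionOf false false false).card = 1 ∧ (unionOf false false true).card = 4 ∧
    ∀ i : Fin 112, i ∈ unionOf false false true ↔ (i : ℕ) ∈ lineOne := by
  decide +kernel

theorem mask81_card : (Finset.univ.filter fun i : Fin 112 => mask81.testBit i = true).card = 81 := by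
  decide +kernel

theorem reps_lt : rep27 < 112 ∧ rep81 < 112 ∧ rep3 < 112 := by decide +kernel

theorem card_orbit_mul_stab {M : Type*} [Group M] {X : Type*} [MulAction M X] (x : X) :
    (MulAction.orbit M x).ncard * Nat.card (MulAction.stabilizer M x) = Nat.card M := by
  rw [← MulAction.index_stabilizer, mul_comm, Subgroup.card_mul_index]

theorem card_stab_p0 : Nat.card (MulAction.stabilizer GP p0) = 29160 := by
  have h := card_orbit_mul_stab (M := GP) p0
  have : MulAction.orbit GP p0 = Set.univ := Set.eq_univ_of_forall fun i => by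
    obtain ⟨σ, hσ, e⟩ := GP_trans i
    exact ⟨⟨σ, hσ⟩, e⟩
  rw [this, Set.ncard_univ, Nat.card_eq_fintype_card (α := Fin 112), Fintype.card_fin, card_GP] at h
  omega

theorem UP_le_GP : UP ≤ GP := UP_le.trans genH_le

/-- The subgroup of order 729 inside the model. -/
noncomputable abbrev UG : Subgroup GP := UP.subgroupOf GP

theorem isPGroup_UG : IsPGroup 3 UG := isPGroup_UP.comap_subtype

/-- Closure of a set of points under the 3-subgroup, orbit by orbit. -/
theorem full_orbit {O : Set (Fin 112)} (hO : ∀ σ ∈ UP, ∀ x ∈ O, σ x ∈ O) {L : List (ℕ × ℕ × ℕ)}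
    {r W : ℕ} (hr : r < 112) (h : closesTo (stepOK gensU) L r W = true) {x : Fin 112}
    (hx : W.testBit x = true) (hxO : x ∈ O) (y : Fin 112) (hy : W.testBit y = true) : y ∈ O := by
  obtain ⟨σ, hσ, rfl⟩ := orbit_reach gensU_valid (r := ⟨r, hr⟩) h x hx
  obtain ⟨τ, hτ, rfl⟩ := orbit_reach gensU_valid (r := ⟨r, hr⟩) h y hy
  have := hO _ (mul_mem hτ (inv_mem hσ)) _ hxO
  simpa using this

theorem stab_eq {H : Subgroup GP} (hU : UG ≤ H) (hH : Nat.card H = 29160) :
    H = MulAction.stabilizer GP p0 := by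
  classical
  set H0 := MulAction.stabilizer GP p0 with hH0
  let O : Set (Fin 112) := MulAction.orbit H p0
  have hUH0 : UG ≤ H0 := fun u hu => by
    show (u : Equiv.Perm (Fin 112)) p0 = p0
    exact genH_fix _ (UP_le hu)
  let K : Subgroup GP := H ⊓ H0
  have hK : Nat.card (MulAction.stabilizer H p0) = Nat.card K := Nat.card_congr
    { toFun := fun σ => ⟨σ.1.1, σ.1.2, σ.2⟩
      invFun := fun σ => ⟨⟨σ.1, σ.2.1⟩, σ.2.2⟩
      left_inv := fun _ => rfl
      right_inv := fun _ => rfl }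
  have hOK : O.ncard * Nat.card K = 29160 := by
    rw [← hK, ← hH]; exact card_orbit_mul_stab (M := H) p0
  have h81 : 81 ≤ Nat.card UG := by
    have h := card_orbit_mul_stab (M := UG) (⟨rep81, reps_lt.2.1⟩ : Fin 112)
    have hle : 81 ≤ (MulAction.orbit UG (⟨rep81, reps_lt.2.1⟩ : Fin 112)).ncard := by
      rw [← mask81_card, ← Set.ncard_coe_finset]
      refine Set.ncard_le_ncard (fun i hi => ?_) (Set.toFinite _)
      obtain ⟨σ, hσ, e⟩ := orbit_reach gensU_valid (r := ⟨rep81, reps_lt.2.1⟩) orbit81_ok i (Finset.mem_filter.1 hi).2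
      exact ⟨⟨⟨σ, UP_le_GP hσ⟩, hσ⟩, e⟩
    have hs : 0 < Nat.card (MulAction.stabilizer UG (⟨rep81, reps_lt.2.1⟩ : Fin 112)) := Nat.card_pos
    rw [← h]
    exact hle.trans (Nat.le_mul_of_pos_right _ hs)
  have hdvd : O.ncard ∣ 360 := by
    obtain ⟨k, hk⟩ := (IsPGroup.iff_card (p := 3) (G := UG)).1 isPGroup_UG
    have hk4 : 4 ≤ k := by
      by_contra hlt
      have : 3 ^ k ≤ 3 ^ 3 := Nat.pow_le_pow_right (by norm_num) (by omega)
      omega
    have h1 : 81 ∣ Nat.card K := (show (81 : ℕ) = 3 ^ 4 by norm_num) ▸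
      (pow_dvd_pow 3 hk4).trans (hk ▸ Subgroup.card_dvd_of_le (le_inf hU hUH0))
    obtain ⟨m, hm⟩ := h1
    exact ⟨m, by rw [hm] at hOK; nlinarith⟩
  have hinv : ∀ σ ∈ UP, ∀ x ∈ O, σ x ∈ O := by
    rintro σ hσ _ ⟨h, rfl⟩
    exact ⟨(⟨⟨σ, UP_le_GP hσ⟩, hU hσ⟩ : H) * h, rfl⟩
  have h0 : p0 ∈ O := MulAction.mem_orbit_self _
  let fa : Bool := decide (∃ x ∈ O, mask27.testBit (x : Fin 112) = true)
  let fb : Bool := decide (∃ x ∈ O, mask81.testBit (x : Fin 112) = true)
  let fc : Bool := decide (∃ x ∈ O, mask3.testBit (x : Fin 112) = true)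
  have hO : O = ↑(unionOf fa fb fc) := by
    ext i
    simp only [unionOf, Finset.coe_filter, Finset.mem_univ, true_and, Set.mem_setOf_eq, fa, fb, fc,
      Bool.and_eq_true, decide_eq_true_iff]
    constructor
    · intro hi
      by_cases hi0 : i = p0
      · exact Or.inl (congrArg Fin.val hi0)
      · rcases mask_cover i hi0 with h | h | h
        · exact Or.inr (Or.inl ⟨⟨i, hi, h⟩, h⟩)
        · exact Or.inr (Or.inr (Or.inl ⟨⟨i, hi, h⟩, h⟩))
        · exact Or.inr (Or.inr (Or.inr ⟨⟨i, hi, h⟩, h⟩))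
    · rintro (h | ⟨⟨x, hx, h'⟩, h⟩ | ⟨⟨x, hx, h'⟩, h⟩ | ⟨⟨x, hx, h'⟩, h⟩)
      · rw [show i = p0 from Fin.ext h]; exact h0
      · exact full_orbit hinv reps_lt.1 orbit27_ok h' hx i h
      · exact full_orbit hinv reps_lt.2.1 orbit81_ok h' hx i h
      · exact full_orbit hinv reps_lt.2.2 orbit3_ok h' hx i h
  rw [hO, Set.ncard_coe_finset] at hdvd hOK
  obtain ⟨ha, hb⟩ := union_sizes _ _ _ hdvd
  rw [ha, hb] at hO hOK
  cases hc : fc with
  | false =>
    rw [hc, union_small.1, one_mul] at hOK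
    have h1 : K = H := Subgroup.eq_of_le_of_card_ge inf_le_left (by rw [hH, hOK])
    refine Subgroup.eq_of_le_of_card_ge (h1 ▸ inf_le_right) ?_
    rw [hH0, card_stab_p0, hH]
  | true =>
    exfalso
    rw [hc] at hO hOK
    rw [union_small.2.1] at hOK
    have hw := words_ok
    simp only [wordsOK, Bool.and_eq_true, List.all_eq_true, List.any_eq_true, List.mem_range,
      Nat.blt_eq] at hw
    obtain ⟨⟨hlen, hidx⟩, hsep⟩ := hw
    have hlen := Nat.eq_of_beq_eq_true hlen
    let wd : Fin 5 → List ℕ := fun i => wordIn gensH (lineWords.getD i [])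
    have hwd : ∀ i, ∀ c ∈ wd i, c ∈ gensH := fun i => wordIn_mem fun k hk => by
      refine hidx _ ?_ k hk
      rw [List.getD_eq_getElem _ _ (hlen.symm ▸ i.2)]
      exact List.getElem_mem _
    have hwv : ∀ i, ∀ c ∈ wd i, valid 112 c = true := fun i c hc => gensH_valid c (hwd i c hc)
    let el : Fin 5 → GP := fun i => ⟨prodW 112 (wd i), genH_le (prodW_mem (hwd i))⟩
    have hel : ∀ i, el i ∈ H0 := fun i => genH_fix _ (prodW_mem (hwd i))
    let F : Fin 5 × K → H0 := fun p => ⟨el p.1 * p.2, mul_mem (hel p.1) p.2.2.2⟩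
    have hkey : ∀ i j : Fin 5, (j : ℕ) < i → ∀ k k' : K, el i * k = el j * k' → False := by
      intro i j hji k k' e
      obtain ⟨_, ha, hne⟩ := hsep i i.2 j hji
      obtain ⟨a, hal, rfl⟩ := List.mem_map.1 ha
      have hlt : a < 112 := by
        have hm := masks_ok
        simp only [masksOK, Bool.and_eq_true, List.all_eq_true, Nat.blt_eq] at hm
        exact hm.2 a hal
      have haO : (⟨a, hlt⟩ : Fin 112) ∈ O := by
        rw [hO]; exact (union_small.2.2 ⟨a, hlt⟩).2 hal
      obtain ⟨h, hh⟩ := haO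
      have hbO : ((k'.1 * k.1⁻¹ : GP) : Equiv.Perm (Fin 112)) ⟨a, hlt⟩ ∈ O := by
        refine ⟨(⟨k'.1 * k.1⁻¹, mul_mem k'.2.1 (inv_mem k.2.1)⟩ : H) * h, ?_⟩
        rw [← hh]; rfl
      rw [hO] at hbO
      have hb' := (union_small.2.2 _).1 hbO
      have := hne _ (List.mem_map_of_mem hb')
      have e' : el i = el j * (k'.1 * k.1⁻¹) := by rw [← mul_assoc, ← e, mul_inv_cancel_right]
      have e2 := congrArg (fun s : GP => (((s : Equiv.Perm (Fin 112)) ⟨a, hlt⟩ : Fin 112) : ℕ)) e'
      change ((prodW 112 (wd i) ⟨a, hlt⟩ : Fin 112) : ℕ) =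
        ((prodW 112 (wd j) (((k'.1 * k.1⁻¹ : GP) : Equiv.Perm (Fin 112)) ⟨a, hlt⟩) : Fin 112) : ℕ) at e2
      rw [prodW_val (hwv i), prodW_val (hwv j)] at e2
      rw [show Nat.beq _ _ = true from Nat.beq_eq ▸ e2] at this
      exact absurd this (by simp)
    have hF : Function.Injective F := by
      rintro ⟨i, k⟩ ⟨j, k'⟩ e
      have e' : el i * k = el j * k' := congrArg Subtype.val e
      rcases lt_trichotomy i.val j.val with h | h | h
      · exact (hkey j i h k' k e'.symm).elim
      · obtain rfl := Fin.ext h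
        exact Prod.ext rfl (Subtype.ext (mul_left_cancel e'))
      · exact (hkey i j h k k' e').elim
    have := Nat.card_le_card_of_injective F hF
    rw [Nat.card_prod, Nat.card_fin, hH0, card_stab_p0] at this
    omega

/-- An orbit of length 112 of the model is the given action. -/
theorem exists_natural {Ω : Type*} [Finite Ω] [MulAction GP Ω] (b : Ω)
    (hb : (MulAction.orbit GP b).ncard = 112) :
    ∃ φ : Fin 112 → Ω, Function.Injective φ ∧ Set.range φ = MulAction.orbit GP b ∧
      ∀ (σ : GP) (i : Fin 112), φ ((σ : Equiv.Perm (Fin 112)) i) = σ • φ i := by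
  classical
  have : Fact (Nat.Prime 3) := ⟨Nat.prime_three⟩
  obtain ⟨⟨b', hb'⟩, hfix⟩ := isPGroup_UG.nonempty_fixed_point_of_prime_not_dvd_card
    (MulAction.orbit GP b) (by rw [Nat.card_coe_set_eq, hb]; norm_num)
  have horb : MulAction.orbit GP b' = MulAction.orbit GP b := MulAction.orbit_eq_iff.2 hb'
  have hU : UG ≤ MulAction.stabilizer GP b' := fun u hu => congrArg Subtype.val (hfix ⟨u, hu⟩)
  have hcard : Nat.card (MulAction.stabilizer GP b') = 29160 := by
    have h := card_orbit_mul_stab (M := GP) b'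
    rw [horb, hb, card_GP] at h
    omega
  have hst := stab_eq hU hcard
  choose g hg e using GP_trans
  let el : Fin 112 → GP := fun i => ⟨g i, hg i⟩
  have hst' : ∀ σ : GP, σ • b' = b' ↔ (σ : Equiv.Perm (Fin 112)) p0 = p0 := fun σ => by
    rw [← MulAction.mem_stabilizer_iff, hst]; exact Iff.rfl
  have heq : ∀ (σ : GP) (i : Fin 112),
      el ((σ : Equiv.Perm (Fin 112)) i) • b' = σ • el i • b' := by
    intro σ i
    rw [← mul_smul, ← inv_smul_eq_iff, ← mul_smul, hst']
    show ((σ : Equiv.Perm (Fin 112)) * g i)⁻¹ (g ((σ : Equiv.Perm (Fin 112)) i) p0) = p0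
    rw [e, Equiv.Perm.inv_eq_iff_eq, Equiv.Perm.mul_apply, e]
  refine ⟨fun i => el i • b', fun i j h => ?_, ?_, heq⟩
  · have h' : ((el j)⁻¹ * el i) • b' = b' := by rw [mul_smul, inv_smul_eq_iff]; exact h
    rw [hst'] at h'
    have := congrArg (g j) h'
    change (g j) (((g j)⁻¹ * g i) p0) = g j p0 at this
    rw [Equiv.Perm.mul_apply, Equiv.Perm.coe_inv, Equiv.apply_symm_apply, e, e] at this
    exact this
  · ext x
    constructor
    · rintro ⟨i, rfl⟩
      rw [← horb]; exact ⟨el i, rfl⟩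
    · rw [← horb]
      rintro ⟨σ, rfl⟩
      refine ⟨(σ : Equiv.Perm (Fin 112)) p0, ?_⟩
      show el _ • b' = σ • b'
      rw [heq, (hst' (el p0)).2 (e p0)]

end CfsgLib.Recog.McL275
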