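import Cfsg.Agent.Lib.Recog.McL275.AutBound
import Cfsg.Agent.Lib.Golay.MatrixFast

/-! The checks on the tabled 275 lattice vectors. -/

set_option autoImplicit false
set_option maxRecDepth 100000
set_option Elab.async false

namespace CfsgLib.Recog.McL275

open Cfsg CfsgLib.Golay

/-- The code of a vector. -/
def vecCode (i : ℕ) : ℕ := entry16 vecsMcL i

/-- The coordinates of a code. -/
def listOf (c : ℕ) : List ℤ := (List.range 24).map fun i => ((c >>> (3 * i) % 8 : ℕ) : ℤ) - 2

/-- The sum of products of shifted coordinates. -/
def dotW : ℕ → ℕ → ℕ → ℕ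
  | 0, _, _ => 0
  | n + 1, c, d => c % 8 * (d % 8) + dotW n (c / 8) (d / 8)

/-- The sum of shifted coordinates. -/
def sumW : ℕ → ℕ → ℕ
  | 0, _ => 0
  | n + 1, c => c % 8 + sumW n (c / 8)

/-- The vector `5 e_∞` and ones elsewhere. -/
def fiveList : List ℤ := (List.range 24).map fun i => if i = 23 then 5 else 1

/-- The second vector. -/
def minList : List ℤ := (List.range 24).map fun i => if i = 23 ∨ i = 0 then 4 else 0

/-- A vector is one of the 275. -/
def pointOK (c : ℕ) : Bool :=
  inLatL (listOf c) && decide (CfsgLib.Golay.dotL (listOf c) (listOf c) = 32) &&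
    decide (CfsgLib.Golay.dotL fiveList (listOf c) = 24) && decide (CfsgLib.Golay.dotL minList (listOf c) = 16)

theorem points_ok : ((List.range 275).all fun i => pointOK (vecCode i)) = true := by decide +kernel

/-- Products of the vectors agree with the graph. -/
def dotsOK : Bool :=
  (List.range 275).all fun i => eagerN (vecCode i) fun c => eagerN (sumW 24 c) fun sc =>
    eagerN (gRow i) fun r => (List.range i).all fun j => eagerN (vecCode j) fun d =>
      Nat.beq (dotW 24 c d + 96) ((bif r.testBit j then 8 else 16) + 2 * (sc + sumW 24 d)) &&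
      r.testBit j == (gRow j).testBit i

theorem dots_ok : dotsOK = true := by decide +kernel

theorem diag_ok : ((List.range 275).all fun i => !(gRow i).testBit i) = true := by decide +kernel

end CfsgLib.Recog.McL275
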