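import Cfsg.Agent.Lib.Recog.McL275.AutBound
import Cfsg.Agent.Lib.Golay.Co0McLSimple
import Cfsg.Agent.Lib.Recog.McL275.ModelChecks

/-! The group `McL` on its 275 lattice vectors as automorphisms of the tabled graph. -/

set_option autoImplicit false
set_option maxRecDepth 100000
set_option Elab.async false

namespace CfsgLib.Recog.McL275

open Cfsg CfsgLib.Golay

theorem fiveList_eq : funL fiveList = (fiveV : GolayPt → ℤ) := funext (by decide +kernel)

theorem minList_eq : funL minList = (min44 : GolayPt → ℤ) := funext (by decide +kernel)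

theorem listOf_length (c : ℕ) : (listOf c).length = 24 := by simp [listOf]

theorem mem_leech_of_code (i : Fin 275) : funL (listOf (vecCode i)) ∈ leechLattice := by
  have h := List.all_eq_true.1 points_ok i (List.mem_range.2 i.2)
  simp only [pointOK, Bool.and_eq_true] at h
  exact inLat_mem (inLat_of_inLatL h.1.1.1)

/-- The vector of a vertex. -/
def vecPt (i : Fin 275) : leechLattice := ⟨funL (listOf (vecCode i)), mem_leech_of_code i⟩

theorem vecPt_mem (i : Fin 275) : vecPt i ∈ mclPoints := by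
  have h := List.all_eq_true.1 points_ok i (List.mem_range.2 i.2)
  simp only [pointOK, Bool.and_eq_true, decide_eq_true_iff] at h
  obtain ⟨⟨⟨-, h1⟩, h2⟩, h3⟩ := h
  rw [dotL_eq_dotInt (listOf_length _) (listOf_length _)] at h1
  rw [dotL_eq_dotInt (by decide) (listOf_length _), fiveList_eq] at h2
  rw [dotL_eq_dotInt (by decide) (listOf_length _), minList_eq] at h3
  refine ⟨?_, h2, h3⟩
  show sqNorm (funL (listOf (vecCode i))) = 32
  rw [← h1, sqNorm, dotInt]
  exact Finset.sum_congr rfl fun p _ => pow_two _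

theorem dotW_eq : ∀ n c d : ℕ,
    ((dotW n c d : ℕ) : ℤ) + 4 * n - 2 * (sumW n c + sumW n d : ℕ) =
      ∑ i ∈ Finset.range n, (((c >>> (3 * i) % 8 : ℕ) : ℤ) - 2) * (((d >>> (3 * i) % 8 : ℕ) : ℤ) - 2)
  | 0, c, d => by simp [dotW, sumW]
  | n + 1, c, d => by
    have ih := dotW_eq n (c / 8) (d / 8)
    have hs : ∀ e i : ℕ, (e / 8) >>> (3 * i) = e >>> (3 * (i + 1)) := fun e i => by
      rw [Nat.shiftRight_eq_div_pow, Nat.shiftRight_eq_div_pow, Nat.div_div_eq_div_mul,
        show 3 * (i + 1) = 3 + 3 * i by ring, pow_add]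
      norm_num
    simp only [hs] at ih
    rw [Finset.sum_range_succ', ← ih]
    simp only [dotW, sumW, mul_zero, Nat.shiftRight_zero]
    push_cast
    ring

theorem sum_map_range (f : ℕ → ℤ) : ∀ n : ℕ,
    ((List.range n).map f).sum = ∑ k ∈ Finset.range n, f k
  | 0 => rfl
  | n + 1 => by
    rw [List.range_succ, List.map_append, List.sum_append, sum_map_range f n, Finset.sum_range_succ]
    simp

theorem dotW_list {n c d : ℕ} {L M : List ℤ} (hL : L.length = n) (hM : M.length = n)
    (h1 : ∀ k < n, L.getD k 0 = ((c >>> (3 * k) % 8 : ℕ) : ℤ) - 2)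
    (h2 : ∀ k < n, M.getD k 0 = ((d >>> (3 * k) % 8 : ℕ) : ℤ) - 2) :
    CfsgLib.Golay.dotL L M = ((dotW n c d : ℕ) : ℤ) + 4 * n - 2 * (sumW n c + sumW n d : ℕ) := by
  rw [dotW_eq, dotL_eq_range L M (hL.trans hM.symm), hL, sum_map_range]
  exact Finset.sum_congr rfl fun k hk => by rw [h1 k (Finset.mem_range.1 hk), h2 k (Finset.mem_range.1 hk)]

theorem listOf_getD (e k : ℕ) (hk : k < 24) :
    (listOf e).getD k 0 = ((e >>> (3 * k) % 8 : ℕ) : ℤ) - 2 := by
  rw [List.getD_eq_getElem _ _ (lt_of_lt_of_eq hk (listOf_length e).symm)]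
  simp only [listOf, List.getElem_map, List.getElem_range]

theorem four_mul_len : (4 : ℤ) * ((24 : ℕ) : ℤ) = 96 := by norm_num

theorem dotL_codes (c d : ℕ) : CfsgLib.Golay.dotL (listOf c) (listOf d) =
    ((dotW 24 c d : ℕ) : ℤ) + 96 - 2 * (sumW 24 c + sumW 24 d : ℕ) :=
  (dotW_list (listOf_length c) (listOf_length d) (listOf_getD c) (listOf_getD d)).trans
    (by rw [four_mul_len])

theorem dot_vecPt {i j : Fin 275} (h : (j : ℕ) < i) :
    dotInt (vecPt i : GolayPt → ℤ) (vecPt j : GolayPt → ℤ) = (if adjΓ i j then 8 else 16) ∧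
      adjΓ i j = adjΓ j i := by
  have hd := dots_ok
  simp only [dotsOK, eagerN_eq, Bool.and_eq_true, List.all_eq_true, List.mem_range, beq_iff_eq] at hd
  obtain ⟨h1, h2⟩ := hd i i.2 j h
  have h1 := Nat.eq_of_beq_eq_true h1
  refine ⟨?_, h2⟩
  show dotInt (funL (listOf (vecCode i))) (funL (listOf (vecCode j))) = _
  rw [← dotL_eq_dotInt (listOf_length _) (listOf_length _), dotL_codes]
  generalize dotW 24 (vecCode i) (vecCode j) = D at h1 ⊢
  generalize sumW 24 (vecCode i) = s at h1 ⊢
  generalize sumW 24 (vecCode j) = t at h1 ⊢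
  show _ = if (gRow (i : ℕ)).testBit j = true then (8 : ℤ) else 16
  generalize (gRow (i : ℕ)).testBit j = b at h1 ⊢
  cases b <;> simp only [cond_true, cond_false, Bool.false_eq_true, ↓reduceIte] at h1 ⊢ <;> omega

theorem adj_symm (i j : Fin 275) : adjΓ i j = adjΓ j i := by
  rcases lt_trichotomy i.val j.val with h | h | h
  · exact (dot_vecPt h).2.symm
  · rw [Fin.ext h]
  · exact (dot_vecPt h).2

theorem adj_iff_dot (i j : Fin 275) :
    adjΓ i j = true ↔ dotInt (vecPt i : GolayPt → ℤ) (vecPt j : GolayPt → ℤ) = 8 := by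
  rcases lt_trichotomy i.val j.val with h | h | h
  · rw [dotInt_comm, (dot_vecPt h).1, adj_symm]
    cases adjΓ j i <;> simp
  · rw [Fin.ext h]
    have hh := List.all_eq_true.1 diag_ok j (List.mem_range.2 j.2)
    rw [Bool.not_eq_true'] at hh
    rw [dotInt_self, (vecPt_mem j).1]
    simp [adjΓ, hh]
  · rw [(dot_vecPt h).1]
    cases adjΓ i j <;> simp

theorem vecPt_injective : Function.Injective vecPt := by
  intro i j h
  by_contra hne
  have hne' : (j : ℕ) ≠ i := fun e => hne (Fin.ext e.symm)
  rcases hne'.lt_or_gt with hl | hl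
  · have := (dot_vecPt hl).1
    rw [h, dotInt_self, (vecPt_mem j).1] at this
    revert this; cases adjΓ i j <;> simp
  · have := (dot_vecPt hl).1
    rw [h, dotInt_self, (vecPt_mem j).1] at this
    revert this; cases adjΓ j i <;> simp

theorem range_vecPt : Set.range vecPt = mclPoints := by
  refine Set.eq_of_subset_of_ncard_le (by rintro _ ⟨i, rfl⟩; exact vecPt_mem i) ?_ mclPoints_finite
  rw [ncard_mclPoints, Set.ncard_range_of_injective vecPt_injective, Nat.card_fin]

theorem exists_img (g : mclGroup) (i : Fin 275) : ∃ j, vecPt j = (g : Co0) • vecPt i := by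
  have hm : (g : Co0) • vecPt i ∈ mclPoints := by
    obtain ⟨h1, h2, h3⟩ := vecPt_mem i
    refine ⟨(co0_sq _ _).trans h1, ?_, ?_⟩
    · have := co0_dot (g : Co0) fiveV (vecPt i)
      rw [MulAction.mem_stabilizer_iff.1 g.2.1] at this
      exact this.trans h2
    · have := co0_dot (g : Co0) min44 (vecPt i)
      rw [MulAction.mem_stabilizer_iff.1 g.2.2] at this
      exact this.trans h3
  rw [← range_vecPt] at hm
  exact hm

/-- The image of a vertex. -/
noncomputable def imgV (g : mclGroup) (i : Fin 275) : Fin 275 := (exists_img g i).choose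

theorem imgV_spec (g : mclGroup) (i : Fin 275) : vecPt (imgV g i) = (g : Co0) • vecPt i :=
  (exists_img g i).choose_spec

theorem imgV_one (i : Fin 275) : imgV 1 i = i := vecPt_injective (by
  rw [imgV_spec, OneMemClass.coe_one, one_smul])

theorem imgV_mul (g h : mclGroup) (i : Fin 275) : imgV (g * h) i = imgV g (imgV h i) :=
  vecPt_injective (by rw [imgV_spec, imgV_spec, imgV_spec, Subgroup.coe_mul, mul_smul])

/-- The action on the vertices. -/
noncomputable def actV : mclGroup →* Equiv.Perm (Fin 275) :=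
  MonoidHom.mk' (fun g =>
    { toFun := imgV g
      invFun := imgV g⁻¹
      left_inv := fun i => by rw [← imgV_mul, inv_mul_cancel, imgV_one]
      right_inv := fun i => by rw [← imgV_mul, mul_inv_cancel, imgV_one] })
    fun g h => Equiv.ext fun i => imgV_mul g h i

theorem actV_mem (g : mclGroup) : actV g ∈ AutΓ := by
  intro x y
  show adjΓ (imgV g x) (imgV g y) = adjΓ x y
  rw [Bool.eq_iff_iff, adj_iff_dot, adj_iff_dot, imgV_spec, imgV_spec, co0_dot]

theorem actV_injective : Function.Injective actV := by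
  haveI := isSimple_mclGroup
  rcases (MonoidHom.normal_ker actV).eq_bot_or_eq_top with h | h
  · exact (MonoidHom.ker_eq_bot_iff _).1 h
  · exfalso
    obtain ⟨g, g1, g2, g3⟩ := mcl_trans (vecPt_mem 0) (vecPt_mem 1)
    have hk : actV ⟨g, g1, g2⟩ = 1 := MonoidHom.mem_ker.1 (h ▸ Subgroup.mem_top _)
    have e : imgV ⟨g, g1, g2⟩ 0 = 0 := DFunLike.congr_fun hk 0
    have := imgV_spec ⟨g, g1, g2⟩ 0
    rw [e] at this
    exact absurd (vecPt_injective (this.trans g3)) (by decide)

/-- A copy of the group inside the automorphisms, the only subgroup of its order. -/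
theorem equiv_mclGroup {A : Subgroup (Equiv.Perm (Fin 275))} (hA : A ≤ AutΓ)
    (cA : Nat.card A = 898128000) : Nonempty (A ≃* mclGroup) := by
  let e := MonoidHom.ofInjective actV_injective
  haveI := isSimple_mclGroup
  haveI : IsSimpleGroup actV.range := e.symm.isSimpleGroup
  have h := unique_simple hA (by rintro _ ⟨g, rfl⟩; exact actV_mem g) cA
    (by rw [← Nat.card_congr e.toEquiv, card_mclGroup]) (B := actV.range)
  exact ⟨(MulEquiv.subgroupCongr h).trans e.symm⟩

end CfsgLib.Recog.McL275
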