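import Cfsg.Agent.Lib.Recog.McL275.Tables

/-! The blocks of the graph on 275 vertices and a bound for its automorphisms. -/

set_option autoImplicit false
set_option maxRecDepth 100000
set_option Elab.async false

namespace CfsgLib.Recog.McL275

/-- The rows of the graph from collinearity and the sets of 56 points. -/
noncomputable def blockOK : Bool :=
  Nat.beq (gRow 0) ((2 ^ 112 - 1) <<< 1) &&
  ((List.range 112).all fun i => eagerN (gRow (1 + i)) fun g => eagerN (aRow i) fun r => g.testBit 0 &&
    ((List.range 112).all fun j => g.testBit (1 + j) == r.testBit j) &&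
    ((List.range 162).all fun j => g.testBit (113 + j) == (mSet j).testBit i)) &&
  ((List.range 162).all fun j => eagerN (gRow (113 + j)) fun g => eagerN (mSet j) fun s => !g.testBit 0 &&
    ((List.range 112).all fun i => g.testBit (1 + i) == s.testBit i) &&
    ((List.range 162).all fun j' => g.testBit (113 + j') ==
      (!Nat.beq j' j && eagerN (s &&& mSet j') fun w => Nat.ble (popN 14 w) 30)))

theorem block_ok : blockOK = true := by decide +kernel

/-- The base bounds the automorphisms. -/
def autOK : Bool :=
  match baseBound gRow 275 baseΓ 0 with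
  | some (p, M) => Nat.blt p (15 * 898128000) &&
      (((List.range 275).filter fun y => !M.testBit y).map fun y => gRow y &&& M) == keysΓ &&
      distinctN keysΓ
  | none => false

theorem aut_ok : autOK = true := by decide +kernel

/-- The automorphisms of the graph on 275 vertices. -/
abbrev AutΓ : Subgroup (Equiv.Perm (Fin 275)) := autGraph gRow 275

theorem mem_AutΓ {σ : Equiv.Perm (Fin 275)} : σ ∈ AutΓ ↔ ∀ x y, adjΓ (σ x) (σ y) = adjΓ x y := Iff.rfl

theorem card_AutΓ : Nat.card AutΓ < 15 * 898128000 := by
  have h := aut_ok
  unfold autOK at h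
  cases hr : baseBound gRow 275 baseΓ 0 with
  | none => rw [hr] at h; exact absurd h (by simp)
  | some r =>
    obtain ⟨p, M⟩ := r
    rw [hr] at h
    simp only [Bool.and_eq_true, Nat.blt_eq, beq_iff_eq] at h
    exact lt_of_le_of_lt (card_le_baseBound gRow 275 keysΓ hr h.1.2 h.2
      (fun i hi => by simp at hi) AutΓ le_rfl (fun σ _ z hz => by simp at hz)) h.1.1

/-- Two subgroups of order `898128000` of the automorphism group are equal, if one is simple. -/
theorem unique_simple {A B : Subgroup (Equiv.Perm (Fin 275))} (hA : A ≤ AutΓ) (hB : B ≤ AutΓ)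
    (cA : Nat.card A = 898128000) (cB : Nat.card B = 898128000) [IsSimpleGroup B] : A = B := by
  classical
  let N : Subgroup B := A.subgroupOf B
  have hidx : N.index < 15 := by
    have h1 : A.relIndex B ≤ A.relIndex AutΓ :=
      Subgroup.relIndex_le_of_le_right hB Subgroup.index_ne_zero_of_finite
    have h2 := (A.subgroupOf AutΓ).card_mul_index
    rw [Nat.card_congr (Subgroup.subgroupOfEquivOfLe hA).toEquiv, cA] at h2
    have h3 := card_AutΓ
    show A.relIndex B < 15
    have h4 : (A.subgroupOf AutΓ).index < 15 := by
      by_contra hlt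
      have := Nat.mul_le_mul_left 898128000 (not_lt.1 hlt)
      omega
    exact lt_of_le_of_lt h1 h4
  haveI : N.FiniteIndex := inferInstance
  rcases (Subgroup.normalCore_normal N).eq_bot_or_eq_top with h | h
  · exfalso
    have hcore : (MulAction.toPermHom B (B ⧸ N)).ker = N.normalCore := (Subgroup.normalCore_eq_ker N).symm
    have hinj : Function.Injective (MulAction.toPermHom B (B ⧸ N)) := by
      rw [← MonoidHom.ker_eq_bot_iff, hcore, h]
    have hd := Subgroup.card_dvd_of_injective _ hinj
    rw [cB, Nat.card_perm, ← Subgroup.index] at hd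
    have hd' := hd.trans (Nat.factorial_dvd_factorial (show N.index ≤ 14 by omega))
    norm_num [Nat.factorial] at hd'
  · have hN : N = ⊤ := top_le_iff.1 (h ▸ Subgroup.normalCore_le N)
    exact (Subgroup.eq_of_le_of_card_ge (Subgroup.subgroupOf_eq_top.1 hN) (by rw [cA, cB])).symm

end CfsgLib.Recog.McL275
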