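import Cfsg.Agent.Lib.Recog.McL275.Suborbits
import Cfsg.Agent.Lib.Recog.McL275.AutBound
import Mathlib.Logic.Equiv.Basic

/-! The graph of the orbital is the tabled graph on 275 vertices. -/

set_option autoImplicit false
set_option maxRecDepth 100000
set_option Elab.async false

namespace CfsgLib.Recog.McL275

open CfsgLib.KnownA.PermCert CfsgLib.KnownA.U4ThreeSchur

/-- A vertex among the 112. -/
def vP (i : Fin 112) : Fin 275 := ⟨1 + i, by omega⟩

/-- A vertex among the 162. -/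
def vQ (j : Fin 162) : Fin 275 := ⟨113 + j, by omega⟩

theorem vertex_cases (x : Fin 275) : x = 0 ∨ (∃ i, x = vP i) ∨ ∃ j, x = vQ j := by
  rcases Nat.lt_or_ge (x : ℕ) 1 with h | h
  · exact Or.inl (Fin.ext (by simp; omega))
  · rcases Nat.lt_or_ge (x : ℕ) 113 with h' | h'
    · exact Or.inr (Or.inl ⟨⟨x - 1, by omega⟩, Fin.ext (by simp [vP]; omega)⟩)
    · exact Or.inr (Or.inr ⟨⟨x - 113, by omega⟩, Fin.ext (by simp [vQ]; omega)⟩)

theorem adjΓ_blocks :
    (∀ i, adjΓ 0 (vP i) = true ∧ adjΓ (vP i) 0 = true) ∧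
    (∀ j, adjΓ 0 (vQ j) = false ∧ adjΓ (vQ j) 0 = false) ∧ adjΓ 0 0 = false ∧
    (∀ i i', adjΓ (vP i) (vP i') = nearP i i') ∧
    (∀ i j, adjΓ (vP i) (vQ j) = (mSet j).testBit i ∧ adjΓ (vQ j) (vP i) = (mSet j).testBit i) ∧
    (∀ j j' : Fin 162, adjΓ (vQ j) (vQ j') = true ↔ j' ≠ j ∧
      (Finset.univ.filter fun i : Fin 112 => ((mSet j).testBit i && (mSet j').testBit i) = true).card ≤ 30) := by
  have h := block_ok
  simp only [blockOK, eagerN_eq, Bool.and_eq_true, List.all_eq_true, List.mem_range, beq_iff_eq,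
    Bool.not_eq_true'] at h
  obtain ⟨⟨h0, hP⟩, hQ⟩ := h
  have h0 := Nat.eq_of_beq_eq_true h0
  have h0' : ∀ y : ℕ, (gRow 0).testBit y = (decide (1 ≤ y) && decide (y - 1 < 112)) := fun y => by
    rw [h0, Nat.testBit_shiftLeft, Nat.testBit_two_pow_sub_one]
  refine ⟨fun i => ⟨?_, (hP i i.2).1.1⟩, fun j => ⟨?_, (hQ j j.2).1.1⟩, ?_,
    fun i i' => (hP i i.2).1.2 i' i'.2, fun i j => ⟨(hP i i.2).2 j j.2, (hQ j j.2).1.2 i i.2⟩, fun j j' => ?_⟩
  · show (gRow 0).testBit (1 + i) = true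
    rw [h0']; simp [i.2]
  · show (gRow 0).testBit (113 + j) = false
    rw [h0']; simp
  · show (gRow 0).testBit 0 = false
    rw [h0']; simp
  · show (gRow (113 + j)).testBit (113 + j') = true ↔ _
    rw [(hQ j j.2).2 j' j'.2, Bool.and_eq_true, Nat.ble_eq, popN_card (k := 112) rfl]
    simp only [Nat.testBit_and]
    refine and_congr ?_ Iff.rfl
    rw [Bool.not_eq_true', ← Bool.not_eq_true, not_iff_not]
    exact ⟨fun h => Fin.ext (Nat.eq_of_beq_eq_true h), fun h => h ▸ Nat.beq_refl _⟩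

theorem meet_count (j : Fin 162) : (Finset.univ.filter fun j' : Fin 162 => j' ≠ j ∧
    (Finset.univ.filter fun i : Fin 112 => ((mSet j).testBit i && (mSet j').testBit i) = true).card ≤ 30).card = 56 := by
  have h := meet_ok
  simp only [meetOK, eagerN_eq, List.all_eq_true, List.mem_range] at h
  refine Eq.trans ?_ (Nat.eq_of_beq_eq_true (h j j.2))
  rw [List.countP_eq_length_filter, ← List.toFinset_card_of_nodup (List.nodup_range.filter _),
    List.toFinset_filter, List.toFinset_range, Finset.card_filter, Finset.card_filter, Finset.sum_range]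
  refine Finset.sum_congr rfl fun j' _ => ?_
  congr 1
  rw [eq_iff_iff, Bool.and_eq_true, Nat.ble_eq, popN_card (k := 112) rfl]
  simp only [Nat.testBit_and]
  refine and_congr ?_ Iff.rfl
  rw [Bool.not_eq_true', ← Bool.not_eq_true, not_iff_not]
  exact ⟨fun h => h ▸ Nat.beq_refl _, fun h => Fin.ext (Nat.eq_of_beq_eq_true h)⟩

namespace RankThree

variable {Ω : Type*} [Fintype Ω] [DecidableEq Ω] (R : RankThree Ω)

theorem exists_family : ∃ (k : Fin 4) (qj : Fin 162 → Ω), Function.Injective qj ∧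
    Finset.univ.image qj = R.QQ ∧ ∀ j i, R.setOf' (qj j) (sigP k i) = (mSet j).testBit i := by
  classical
  have hc : R.c ∈ R.QQ := R.mem_QQ.2 (MulAction.mem_orbit_self _)
  obtain ⟨k, j0, h0⟩ := R.classified hc
  have hex : ∀ j : Fin 162, ∃ q ∈ R.QQ, ∀ i, R.setOf' q (sigP k i) = (mSet j).testBit i := fun j => by
    obtain ⟨σ, hσ⟩ := moves_all k j0 j
    refine ⟨R.act σ • R.c, R.act_mem_QQ σ hc, fun y => ?_⟩
    obtain ⟨z, hz⟩ := (σ : Equiv.Perm (Fin 112)).surjective (sigP k y)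
    obtain ⟨x, rfl⟩ := (sigP k).surjective z
    rw [← hz, R.setOf_act, h0]
    exact (hσ x y hz).symm
  choose qj hq hS using hex
  have hinj : Function.Injective qj := fun j j' e =>
    mSet_inj fun x => by rw [← hS j x, ← hS j' x, e]
  refine ⟨k, qj, hinj, Finset.eq_of_subset_of_card_le (fun x hx => ?_) ?_, hS⟩
  · obtain ⟨j, -, rfl⟩ := Finset.mem_image.1 hx
    exact hq j
  · rw [R.card_QQ, Finset.card_image_of_injective _ hinj, Finset.card_univ, Fintype.card_fin]

/-- The graph is the tabled one. -/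
theorem exists_labelling :
    ∃ f : Fin 275 ≃ Ω, ∀ x y, R.Adj (f x) (f y) ↔ adjΓ x y = true := by
  classical
  obtain ⟨k, qj, hinj, himg, hS⟩ := R.exists_family
  let f : Fin 275 → Ω := fun x =>
    if h0 : (x : ℕ) = 0 then R.a
    else if h1 : (x : ℕ) < 113 then R.pP (sigP k ⟨x - 1, by omega⟩)
    else qj ⟨x - 113, by omega⟩
  have f0 : f 0 = R.a := rfl
  have fP : ∀ i, f (vP i) = R.pP (sigP k i) := fun i => by
    simp only [f, vP]
    rw [dif_neg (by omega), dif_pos (by omega)]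
    exact congrArg R.pP (congrArg (sigP k) (Fin.ext (by simp)))
  have fQ : ∀ j, f (vQ j) = qj j := fun j => by
    simp only [f, vQ]
    rw [dif_neg (by omega), dif_neg (by omega)]
    exact congrArg qj (Fin.ext (by simp))
  have hsurj : Function.Surjective f := fun y => by
    rcases R.cover y with rfl | h | h
    · exact ⟨0, f0⟩
    · rw [← R.image_pP, Finset.mem_image] at h
      obtain ⟨i, -, rfl⟩ := h
      exact ⟨vP ((sigP k).symm i), by rw [fP, Equiv.apply_symm_apply]⟩
    · rw [← himg, Finset.mem_image] at h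
      obtain ⟨j, -, rfl⟩ := h
      exact ⟨vQ j, fQ j⟩
  have hbij := (Fintype.bijective_iff_surjective_and_card f).2
    ⟨hsurj, by rw [Fintype.card_fin, R.card]⟩
  obtain ⟨b1, b2, b3, b4, b5, b6⟩ := adjΓ_blocks
  have hqQ : ∀ j, qj j ∈ R.QQ := fun j => himg ▸ Finset.mem_image_of_mem _ (Finset.mem_univ j)
  have haP : ∀ i, R.Adj R.a (R.pP i) := fun i => R.mem_nb.1 (R.nb_a.symm ▸ R.pP_mem i)
  have haQ : ∀ j, ¬R.Adj R.a (qj j) := fun j h =>
    Finset.disjoint_left.1 R.disjoint_PQ (R.nb_a ▸ R.mem_nb.2 h) (hqQ j)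
  have hPQ : ∀ i j, R.Adj (qj j) (R.pP (sigP k i)) ↔ (mSet j).testBit i = true := fun i j => by
    rw [← hS j i, setOf', decide_eq_true_iff]
  have hQQ : ∀ j j', R.Adj (qj j) (qj j') ↔ adjΓ (vQ j) (vQ j') = true := by
    intro j
    let T : Finset (Fin 162) := Finset.univ.filter fun j' : Fin 162 => j' ≠ j ∧
      (Finset.univ.filter fun i : Fin 112 => ((mSet j).testBit i && (mSet j').testBit i) = true).card ≤ 30
    have hsub : R.nb (qj j) ∩ R.QQ ⊆ T.image qj := by
      intro y hy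
      obtain ⟨hy1, hy2⟩ := Finset.mem_inter.1 hy
      rw [← himg, Finset.mem_image] at hy2
      obtain ⟨j', -, rfl⟩ := hy2
      rw [mem_nb] at hy1
      refine Finset.mem_image_of_mem _ (Finset.mem_filter.2 ⟨Finset.mem_univ _, ?_, ?_⟩)
      · rintro rfl; exact R.adj_irrefl _ hy1
      · rw [← R.card_common hy1,
          ← Finset.card_image_of_injective _ (R.pP_inj.comp (sigP k).injective)]
        refine Finset.card_le_card fun z hz => ?_
        obtain ⟨i, hi, rfl⟩ := Finset.mem_image.1 hz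
        simp only [Finset.mem_filter, Finset.mem_univ, true_and, Bool.and_eq_true] at hi
        exact Finset.mem_inter.2 ⟨R.mem_nb.2 ((hPQ i j).2 hi.1), R.mem_nb.2 ((hPQ i j').2 hi.2)⟩
    have hcard : (R.nb (qj j) ∩ R.QQ).card = 56 := by
      have h := R.split_card (R.nb (qj j))
      have hP : (R.nb (qj j) ∩ R.PP).card = 56 := by rw [← R.card_inP]; exact R.local_structure.2 _ (hqQ j)
      rw [R.card_nb, if_neg (fun h => haQ j (R.adj_symm (R.mem_nb.1 h))), hP] at h
      omega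
    have heq := Finset.eq_of_subset_of_card_le hsub (by
      rw [hcard, Finset.card_image_of_injective _ hinj, meet_count])
    intro j'
    rw [b6, ← mem_nb]
    have e : qj j' ∈ R.nb (qj j) ↔ qj j' ∈ T.image qj := by
      rw [← heq, Finset.mem_inter, and_iff_left (hqQ j')]
    rw [e, hinj.mem_finset_image, Finset.mem_filter]
    simp only [Finset.mem_univ, true_and]
  refine ⟨Equiv.ofBijective f hbij, fun x y => ?_⟩
  show R.Adj (f x) (f y) ↔ _
  rcases vertex_cases x with rfl | ⟨i, rfl⟩ | ⟨j, rfl⟩ <;>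
    rcases vertex_cases y with rfl | ⟨i', rfl⟩ | ⟨j', rfl⟩
  · rw [f0, b3]; simp [R.adj_irrefl]
  · rw [f0, fP, (b1 i').1]; simp [haP]
  · rw [f0, fQ, (b2 j').1]; simp [haQ]
  · rw [f0, fP, (b1 i).2, adj_comm]; simp [haP]
  · rw [fP, fP, R.near_iff, b4, nearP_sigP]
  · rw [fP, fQ, (b5 i j').1, adj_comm, hPQ]
  · rw [f0, fQ, (b2 j).2, adj_comm]; simp [haQ]
  · rw [fP, fQ, (b5 i' j).2, hPQ]
  · rw [fQ, fQ, hQQ]

/-- The group as automorphisms of the tabled graph. -/
theorem exists_sub : ∃ A : Subgroup (Equiv.Perm (Fin 275)), A ≤ AutΓ ∧ Nat.card A = 898128000 ∧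
    Nonempty (R.G ≃* A) := by
  obtain ⟨f, hf⟩ := R.exists_labelling
  let π : R.G →* Equiv.Perm (Fin 275) := f.symm.permCongrHom.toMonoidHom.comp R.G.subtype
  have hπ : Function.Injective π := f.symm.permCongrHom.injective.comp R.G.subtype_injective
  refine ⟨π.range, ?_, ?_, ⟨MonoidHom.ofInjective hπ⟩⟩
  · rintro _ ⟨g, rfl⟩ x y
    show adjΓ (π g x) (π g y) = adjΓ x y
    have hx : ∀ x, f (π g x) = g • f x := fun x => by
      show f (f.symm ((g : Equiv.Perm Ω) (f x))) = _
      rw [Equiv.apply_symm_apply]; rfl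
    rw [Bool.eq_iff_iff, ← hf, ← hf, hx, hx, adj_smul]
  · rw [← Nat.card_congr (MonoidHom.ofInjective hπ).toEquiv]
    have hG := card_orbit_mul_stab (M := R.G) R.a
    rw [show MulAction.orbit R.G R.a = Set.univ from Set.eq_univ_of_forall fun x => R.trans R.a x,
      Set.ncard_univ, Nat.card_eq_fintype_card, R.card, ← Nat.card_congr R.iso.toEquiv, card_GP] at hG
    omega

end RankThree

end CfsgLib.Recog.McL275
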