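import Mathlib.Algebra.BigOperators.Intervals
import Mathlib.Algebra.BigOperators.Group.Finset.Basic
import Mathlib.Data.Nat.Bitwise
import Mathlib.GroupTheory.GroupAction.Basic
import Mathlib.GroupTheory.Index
import Mathlib.Data.Fintype.Perm
import Mathlib.Algebra.BigOperators.Fin
import Mathlib.Tactic.Ring

/-!
Checkers used in the recognition of a rank 3 group on 275 points, with their soundness: bit counts,
closures under steps, search trees for sets meeting every line in two points, and bases for
automorphism groups of graphs given by rows.
-/

set_option autoImplicit false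

namespace CfsgLib.Recog.McL275

/-- Evaluates the number before passing it on. -/
def eagerN {α : Type} (n : ℕ) (f : ℕ → α) : α :=
  match n with
  | 0 => f 0
  | m + 1 => f (m + 1)

theorem eagerN_eq {α : Type} (n : ℕ) (f : ℕ → α) : eagerN n f = f n := by cases n <;> rfl

/-- The bit counts of the bytes, four bits each. -/
def byteTable : ℕ :=
  0x8776766576656554766565546554544376656554655454436554544354434332766565546554544365545443544343326554544354434332544343324332322176656554655454436554544354434332655454435443433254434332433232216554544354434332544343324332322154434332433232214332322132212110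

/-- The bit count of a byte. -/
def popByte (b : ℕ) : ℕ := Nat.land (Nat.shiftRight byteTable (Nat.mul 4 b)) 15

theorem popByte_eq : ∀ b : Fin 256, popByte b = ∑ i ∈ Finset.range 8, ((b : ℕ).testBit i).toNat := by
  decide +kernel

/-- The number of set bits among the first `8 n`. -/
noncomputable def popN (n m : ℕ) : ℕ :=
  Nat.rec (motive := fun _ => ℕ → ℕ) (fun _ => 0)
    (fun _ f m => Nat.add (popByte (Nat.mod m 256)) (f (Nat.shiftRight m 8))) n m

theorem popN_eq : ∀ n m, popN n m = ∑ i ∈ Finset.range (8 * n), (m.testBit i).toNat
  | 0, m => by simp [popN]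
  | n + 1, m => by
    show popByte (m % 256) + popN n (m >>> 8) = _
    rw [popN_eq n, show 8 * (n + 1) = 8 + 8 * n by ring, Finset.sum_range_add,
      show popByte (m % 256) = _ from popByte_eq ⟨m % 256, Nat.mod_lt _ (by norm_num)⟩]
    congr 1
    · refine Finset.sum_congr rfl fun i hi => ?_
      show ((m % 2 ^ 8).testBit i).toNat = _
      rw [Nat.testBit_mod_two_pow]
      simp [Finset.mem_range.1 hi]
    · exact Finset.sum_congr rfl fun i _ => by rw [Nat.testBit_shiftRight]

theorem popN_card {n k m : ℕ} (hk : k = 8 * n) :
    popN n m = (Finset.univ.filter fun i : Fin k => m.testBit i = true).card := by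
  subst hk
  rw [popN_eq, Finset.card_filter, Finset.sum_range]
  refine Finset.sum_congr rfl fun i _ => ?_
  cases m.testBit i <;> rfl

/-- Whether every step starts at a point reached before; the points reached. -/
def closeUp (ok : ℕ → ℕ → ℕ → Bool) : List (ℕ × ℕ × ℕ) → ℕ → Option ℕ
  | [], V => some V
  | (x, k, y) :: L, V =>
    bif V.testBit x && ok x k y then closeUp ok L (V ||| (1 <<< y)) else none

theorem closeUp_sound {ok : ℕ → ℕ → ℕ → Bool} {P : ℕ → Prop}
    (step : ∀ x k y, ok x k y = true → P x → P y) :
    ∀ {L : List (ℕ × ℕ × ℕ)} {V W : ℕ}, closeUp ok L V = some W →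
      (∀ i, V.testBit i = true → P i) → ∀ i, W.testBit i = true → P i
  | [], V, W, h, hV => by
    rw [closeUp, Option.some.injEq] at h
    exact h ▸ hV
  | (x, k, y) :: L, V, W, h, hV => by
    rw [closeUp] at h
    cases hc : V.testBit x && ok x k y with
    | false => rw [hc] at h; exact absurd h (by simp)
    | true =>
      rw [hc, cond_true] at h
      rw [Bool.and_eq_true] at hc
      refine closeUp_sound step h fun i hi => ?_
      rw [Nat.testBit_or, Bool.or_eq_true] at hi
      rcases hi with hi | hi
      · exact hV i hi
      · rw [Nat.one_shiftLeft, Nat.testBit_two_pow, decide_eq_true_iff] at hi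
        exact hi ▸ step x k y hc.2 (hV x hc.1)

/-- The steps lead from `r` to exactly the points of `W`. -/
def closesTo (ok : ℕ → ℕ → ℕ → Bool) (L : List (ℕ × ℕ × ℕ)) (r W : ℕ) : Bool :=
  closeUp ok L (1 <<< r) == some W

theorem closesTo_sound {ok : ℕ → ℕ → ℕ → Bool} {P : ℕ → Prop} {L : List (ℕ × ℕ × ℕ)} {r W : ℕ}
    (h : closesTo ok L r W = true) (step : ∀ x k y, ok x k y = true → P x → P y) (hr : P r) :
    ∀ i, W.testBit i = true → P i :=
  closeUp_sound step (beq_iff_eq.1 h) fun i hi => by
    rw [Nat.one_shiftLeft, Nat.testBit_two_pow, decide_eq_true_iff] at hi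
    exact hi ▸ hr

/-! ### The search -/

theorem countP_eq_imp {p q : ℕ → Bool} (hpq : ∀ a, p a = true → q a = true) :
    ∀ {l : List ℕ}, l.countP q ≤ l.countP p → ∀ a ∈ l, q a = true → p a = true
  | [], _, a, ha, _ => absurd ha (List.not_mem_nil)
  | b :: l, h, a, ha, hq => by
    have hle : l.countP p ≤ l.countP q := List.countP_mono_left fun x _ => hpq x
    rw [List.countP_cons, List.countP_cons] at h
    rcases List.mem_cons.1 ha with rfl | ha
    · by_contra hp
      rw [if_pos hq, if_neg hp] at h
      omega
    · refine countP_eq_imp hpq ?_ a ha hq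
      by_cases hb : p b = true
      · rw [if_pos hb, if_pos (hpq b hb)] at h; omega
      · rw [if_neg hb] at h; omega

theorem countP_not_add (S : ℕ → Bool) : ∀ l : List ℕ,
    l.countP (fun a => !S a) + l.countP S = l.length
  | [] => rfl
  | b :: l => by
    have := countP_not_add S l
    cases hb : S b <;> simp [hb] <;> omega

/-- Adds the points of a list outside `A` to `B`. -/
def addRest (A : ℕ) : List ℕ → ℕ → ℕ
  | [], B => B
  | a :: l, B => addRest A l (bif A.testBit a then B else Nat.lor B (Nat.shiftLeft 1 a))

theorem addRest_sound {A : ℕ} : ∀ {l : List ℕ} {B i : ℕ}, (addRest A l B).testBit i = true →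
    B.testBit i = true ∨ (i ∈ l ∧ A.testBit i = false)
  | [], B, i, h => Or.inl h
  | a :: l, B, i, h => by
    rcases addRest_sound (l := l) h with h | ⟨h1, h2⟩
    · cases hA : A.testBit a with
      | true => rw [hA, cond_true] at h; exact Or.inl h
      | false =>
        rw [hA, cond_false, show Nat.lor B (Nat.shiftLeft 1 a) = B ||| (1 <<< a) from rfl, Nat.testBit_or,
          Bool.or_eq_true] at h
        rcases h with h | h
        · exact Or.inl h
        · rw [Nat.one_shiftLeft, Nat.testBit_two_pow, decide_eq_true_iff] at h
          exact Or.inr ⟨h ▸ List.mem_cons_self .., h ▸ hA⟩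
    · exact Or.inr ⟨List.mem_cons_of_mem _ h1, h2⟩

/-- A set agrees with the decided points. -/
def Fits (S : ℕ → Bool) (s : ℕ × ℕ) : Prop :=
  (∀ i, s.1.testBit i = true → S i = true) ∧ ∀ i, s.2.testBit i = true → S i = false

/-- A search tree in preorder: `4k` forces along line `k`, `4x+1` branches at `x`, `4k+2` refutes by line
`k`, `4j+3` is the leaf `j`. -/
def runSearch (line : ℕ → List ℕ) (leaf : ℕ → ℕ → ℕ → Bool) : List ℕ → List (ℕ × ℕ) → Bool
  | [], st => st.isEmpty
  | _ :: _, [] => false
  | t :: ts, (I, O) :: st =>
    match t % 4 with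
    | 0 =>
      bif Nat.beq ((line (t / 4)).countP (fun a => I.testBit a)) 2 then
        eagerN (addRest I (line (t / 4)) O) fun O' => runSearch line leaf ts ((I, O') :: st)
      else Nat.beq ((line (t / 4)).countP (fun a => O.testBit a)) 2 &&
        eagerN (addRest O (line (t / 4)) I) fun I' => runSearch line leaf ts ((I', O) :: st)
    | 1 => eagerN (I ||| (1 <<< (t / 4))) fun I' => eagerN (O ||| (1 <<< (t / 4))) fun O' =>
        runSearch line leaf ts ((I', O) :: (I, O') :: st)
    | 2 =>
      (Nat.blt 2 ((line (t / 4)).countP (fun a => I.testBit a)) ||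
        Nat.blt 2 ((line (t / 4)).countP (fun a => O.testBit a))) && runSearch line leaf ts st
    | _ => leaf (t / 4) I O && runSearch line leaf ts st

theorem runSearch_sound {line : ℕ → List ℕ} {leaf : ℕ → ℕ → ℕ → Bool} {S : ℕ → Bool} {Good : Prop}
    (hlen : ∀ k, (line k).length = 4 ∨ line k = [])
    (hS : ∀ k, line k ≠ [] → (line k).countP S = 2)
    (hleaf : ∀ j I O, leaf j I O = true → Fits S (I, O) → Good) :
    ∀ {ts : List ℕ} {st : List (ℕ × ℕ)}, runSearch line leaf ts st = true →
      ∀ s ∈ st, Fits S s → Good
  | [], st, h, s, hs, _ => by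
    rw [runSearch, List.isEmpty_iff] at h
    subst h
    exact absurd hs List.not_mem_nil
  | _ :: _, [], _, s, hs, _ => absurd hs List.not_mem_nil
  | t :: ts, (I, O) :: st, h, s, hs, hf => by
    rw [runSearch] at h
    simp only [eagerN_eq] at h
    generalize t / 4 = k at h
    have hne : ∀ p : ℕ → Bool, 1 ≤ (line k).countP p → line k ≠ [] := fun p hp e => by
      rw [e] at hp; simp at hp
    rcases List.mem_cons.1 hs with rfl | hs'
    · split at h
      · cases hc : Nat.beq ((line k).countP fun a => I.testBit a) 2 with
        | true =>
          rw [hc, cond_true] at h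
          have h2 := Nat.eq_of_beq_eq_true hc
          refine runSearch_sound hlen hS hleaf h _ (List.mem_cons_self ..) ⟨hf.1, fun i hi => ?_⟩
          rcases addRest_sound hi with hi | ⟨h3, h4⟩
          · exact hf.2 i hi
          · by_contra hne'
            have := countP_eq_imp (p := fun a => I.testBit a) (q := S) hf.1
              (le_of_eq (by rw [hS k (hne _ (by omega : 1 ≤ (line k).countP fun a => I.testBit a)), h2])) i h3 (by simpa using hne')
            exact Bool.false_ne_true (h4.symm.trans this)
        | false =>
          rw [hc, cond_false, Bool.and_eq_true] at h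
          have h2 := Nat.eq_of_beq_eq_true h.1
          refine runSearch_sound hlen hS hleaf h.2 _ (List.mem_cons_self ..) ⟨fun i hi => ?_, hf.2⟩
          rcases addRest_sound hi with hi | ⟨h3, h4⟩
          · exact hf.1 i hi
          · by_contra hne'
            have hl : line k ≠ [] := hne _ (by omega : 1 ≤ (line k).countP fun a => O.testBit a)
            have hl4 : (line k).length = 4 := (hlen k).resolve_right hl
            have hsum := countP_not_add S (line k)
            rw [hl4, hS k hl] at hsum
            have := countP_eq_imp (p := fun a => O.testBit a) (q := fun a => !S a)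
              (fun a ha => by simp [hf.2 a ha])
              (by omega)
              i h3 (by simpa using hne')
            exact Bool.false_ne_true (h4.symm.trans this)
      · rcases Bool.eq_false_or_eq_true (S k) with hx | hx
        · refine runSearch_sound hlen hS hleaf h (I ||| (1 <<< k), O) (List.mem_cons_self ..)
            ⟨fun i hi => ?_, hf.2⟩
          rw [Nat.testBit_or, Bool.or_eq_true] at hi
          rcases hi with hi | hi
          · exact hf.1 i hi
          · rw [Nat.one_shiftLeft, Nat.testBit_two_pow, decide_eq_true_iff] at hi
            exact hi ▸ hx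
        · refine runSearch_sound hlen hS hleaf h (I, O ||| (1 <<< k))
            (List.mem_cons_of_mem _ (List.mem_cons_self ..)) ⟨hf.1, fun i hi => ?_⟩
          rw [Nat.testBit_or, Bool.or_eq_true] at hi
          rcases hi with hi | hi
          · exact hf.2 i hi
          · rw [Nat.one_shiftLeft, Nat.testBit_two_pow, decide_eq_true_iff] at hi
            exact hi ▸ hx
      · simp only [Bool.and_eq_true, Bool.or_eq_true, Nat.blt_eq] at h
        exfalso
        rcases h.1 with h1 | h1
        · have hl : line k ≠ [] := hne _ (by omega : 1 ≤ (line k).countP fun a => I.testBit a)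
          have : (line k).countP (fun a => I.testBit a) ≤ (line k).countP S :=
            List.countP_mono_left fun a _ => hf.1 a
          rw [hS k hl] at this
          omega
        · have hl : line k ≠ [] := hne _ (by omega : 1 ≤ (line k).countP fun a => O.testBit a)
          have hl4 : (line k).length = 4 := (hlen k).resolve_right hl
          have hsum := countP_not_add S (line k)
          have := List.countP_mono_left (l := line k) (p := fun a => O.testBit a)
            (q := fun a => !S a) fun a _ ha => by simp [hf.2 a ha]
          rw [hl4, hS k hl] at hsum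
          omega
      · rw [Bool.and_eq_true] at h
        exact hleaf _ _ _ h.1 hf
    · split at h
      · cases hc : Nat.beq ((line k).countP fun a => I.testBit a) 2 with
        | true =>
          rw [hc, cond_true] at h
          exact runSearch_sound hlen hS hleaf h s (List.mem_cons_of_mem _ hs') hf
        | false =>
          rw [hc, cond_false, Bool.and_eq_true] at h
          exact runSearch_sound hlen hS hleaf h.2 s (List.mem_cons_of_mem _ hs') hf
      · exact runSearch_sound hlen hS hleaf h s
          (List.mem_cons_of_mem _ (List.mem_cons_of_mem _ hs')) hf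
      · rw [Bool.and_eq_true] at h
        exact runSearch_sound hlen hS hleaf h.2 s hs' hf
      · rw [Bool.and_eq_true] at h
        exact runSearch_sound hlen hS hleaf h.2 s hs' hf

/-! ### Bases -/

/-- The number of points outside `m` looking like `x` from `m`. -/
def cellSize (row : ℕ → ℕ) (n m x : ℕ) : ℕ :=
  eagerN (row x &&& m) fun key =>
    (List.range n).countP fun y => !m.testBit y && Nat.beq (row y &&& m) key

/-- The product of the cell sizes along a base, and the mask of the base. -/
def baseBound (row : ℕ → ℕ) (n : ℕ) : List ℕ → ℕ → Option (ℕ × ℕ)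
  | [], m => some (1, m)
  | x :: L, m => bif Nat.blt x n && !m.testBit x then
      match eagerN (m ||| (1 <<< x)) (fun m' => baseBound row n L m') with
      | some (p, m') => some (cellSize row n m x * p, m')
      | none => none
    else none

/-- No two equal entries. -/
def distinctN : List ℕ → Bool
  | [] => true
  | a :: l => l.all (fun b => !Nat.beq a b) && distinctN l

theorem distinctN_nodup : ∀ {l : List ℕ}, distinctN l = true → l.Nodup
  | [], _ => List.nodup_nil
  | a :: l, h => by
    simp only [distinctN, Bool.and_eq_true, List.all_eq_true] at h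
    refine List.nodup_cons.2 ⟨fun ha => ?_, distinctN_nodup h.2⟩
    simpa using h.1 a ha

/-- The automorphisms of a graph given by rows. -/
def autGraph (row : ℕ → ℕ) (n : ℕ) : Subgroup (Equiv.Perm (Fin n)) where
  carrier := {σ | ∀ x y : Fin n, (row (σ x)).testBit (σ y) = (row x).testBit y}
  mul_mem' {σ τ} hσ hτ x y := (hσ (τ x) (τ y)).trans (hτ x y)
  one_mem' _ _ := rfl
  inv_mem' {σ} h x y := by
    have := h (σ⁻¹ x) (σ⁻¹ y)
    simp only [Equiv.Perm.coe_inv, Equiv.apply_symm_apply] at this
    simpa using this.symm

theorem mem_autGraph {row : ℕ → ℕ} {n : ℕ} {σ : Equiv.Perm (Fin n)} :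
    σ ∈ autGraph row n ↔ ∀ x y : Fin n, (row (σ x)).testBit (σ y) = (row x).testBit y := Iff.rfl

theorem key_eq {row : ℕ → ℕ} {n m : ℕ} {σ : Equiv.Perm (Fin n)} (hσ : σ ∈ autGraph row n)
    (hm : ∀ i, m.testBit i = true → i < n)
    (hfix : ∀ z : Fin n, m.testBit z = true → σ z = z) (x : Fin n) :
    row (σ x) &&& m = row x &&& m := by
  refine Nat.eq_of_testBit_eq fun i => ?_
  rw [Nat.testBit_and, Nat.testBit_and]
  cases hi : m.testBit i with
  | false => simp
  | true =>
    have := hσ x ⟨i, hm i hi⟩
    rw [hfix ⟨i, hm i hi⟩ hi] at this
    rw [this]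

theorem not_bit {n m : ℕ} {σ : Equiv.Perm (Fin n)} (hfix : ∀ z : Fin n, m.testBit z = true → σ z = z)
    {x : Fin n} (hx : m.testBit x = false) : m.testBit (σ x) = false := by
  by_contra h
  rw [Bool.not_eq_false] at h
  rw [σ.injective (hfix _ h)] at h
  exact Bool.false_ne_true (hx.symm.trans h)

/-- A base with distinguishing rows bounds the automorphisms. -/
theorem card_le_baseBound (row : ℕ → ℕ) (n : ℕ) (keys : List ℕ) :
    ∀ {L : List ℕ} {m p M : ℕ}, baseBound row n L m = some (p, M) →
      (((List.range n).filter fun y => !M.testBit y).map fun y => row y &&& M) = keys →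
      distinctN keys = true → (∀ i, m.testBit i = true → i < n) →
      ∀ H : Subgroup (Equiv.Perm (Fin n)), H ≤ autGraph row n →
      (∀ σ ∈ H, ∀ z : Fin n, m.testBit z = true → σ z = z) → Nat.card H ≤ p
  | [], m, p, M, h, hk, hd, hm, H, hH, hfix => by
    simp only [baseBound, Option.some.injEq, Prod.mk.injEq] at h
    obtain ⟨rfl, rfl⟩ := h
    have hnd := distinctN_nodup hd
    rw [← hk] at hnd
    have hbot : H = ⊥ := by
      refine (Subgroup.eq_bot_iff_forall _).2 fun σ hσ => Equiv.ext fun x => ?_
      cases hx : m.testBit x with
      | true => exact hfix σ hσ x hx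
      | false =>
        refine Fin.ext (List.inj_on_of_nodup_map hnd ?_ ?_ (key_eq (hH hσ) hm (hfix σ hσ) x))
        · simp [not_bit (hfix σ hσ) hx, (σ x).2]
        · simp [hx, x.2]
    rw [hbot]
    simp
  | x :: L, m, p, M, h, hk, hd, hm, H, hH, hfix => by
    classical
    rw [baseBound] at h
    simp only [eagerN_eq] at h
    cases hc : Nat.blt x n && !m.testBit x with
    | false => rw [hc] at h; exact absurd h (by simp)
    | true =>
      rw [hc, cond_true] at h
      simp only [Bool.and_eq_true, Nat.blt_eq, Bool.not_eq_true'] at hc
      cases hr : baseBound row n L (m ||| (1 <<< x)) with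
      | none => rw [hr] at h; exact absurd h (by simp)
      | some r =>
        obtain ⟨p', M'⟩ := r
        rw [hr] at h
        simp only [Option.some.injEq, Prod.mk.injEq] at h
        obtain ⟨rfl, rfl⟩ := h
        let X : Fin n := ⟨x, hc.1⟩
        have ih := card_le_baseBound row n keys hr hk hd (fun i hi => by
            rw [Nat.testBit_or, Bool.or_eq_true, Nat.one_shiftLeft, Nat.testBit_two_pow,
              decide_eq_true_iff] at hi
            rcases hi with hi | rfl
            · exact hm i hi
            · exact hc.1)
          (H ⊓ MulAction.stabilizer (Equiv.Perm (Fin n)) X) (inf_le_left.trans hH)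
          (fun σ hσ z hz => by
            rw [Nat.testBit_or, Bool.or_eq_true, Nat.one_shiftLeft, Nat.testBit_two_pow,
              decide_eq_true_iff] at hz
            rcases hz with hz | hz
            · exact hfix σ hσ.1 z hz
            · rw [show z = X from Fin.ext hz.symm]; exact hσ.2)
        have horb : Nat.card (MulAction.orbit H X) ≤ cellSize row n m x := by
          let T : Finset ℕ := (Finset.range n).filter fun y =>
            (!m.testBit y && Nat.beq (row y &&& m) (row x &&& m)) = true
          have hT : T.card = cellSize row n m x := by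
            rw [cellSize, eagerN_eq, List.countP_eq_length_filter, ← List.toFinset_card_of_nodup
              (List.nodup_range.filter _)]
            refine congrArg Finset.card (Finset.ext fun y => ?_)
            simp [T]
          rw [← hT, ← Nat.card_eq_finsetCard]
          refine Nat.card_le_card_of_injective (fun y => ⟨(y.1 : ℕ), ?_⟩) fun y y' e =>
            Subtype.ext (Fin.ext (congrArg Subtype.val e : _))
          obtain ⟨σ, hσ⟩ := y.2
          have hb := not_bit (hfix σ.1 σ.2) (x := X) hc.2
          have hke := key_eq (hH σ.2) hm (hfix σ.1 σ.2) X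
          have hσ' : (σ : Equiv.Perm (Fin n)) X = y.1 := hσ
          rw [hσ'] at hb hke
          simp only [T, Finset.mem_filter, Finset.mem_range, Bool.and_eq_true, Bool.not_eq_true']
          exact ⟨y.1.2, hb, by rw [hke]; exact Nat.beq_refl _⟩
        have hprod := Subgroup.card_mul_index (MulAction.stabilizer H X)
        rw [MulAction.index_stabilizer, ← Nat.card_coe_set_eq] at hprod
        have hs : Nat.card (MulAction.stabilizer H X) ≤ p' := by
          refine le_trans (le_of_eq (Nat.card_congr ?_)) ih
          exact
            { toFun := fun σ => ⟨σ.1.1, σ.1.2, σ.2⟩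
              invFun := fun σ => ⟨⟨σ.1, σ.2.1⟩, σ.2.2⟩
              left_inv := fun _ => rfl
              right_inv := fun _ => rfl }
        rw [← hprod, mul_comm]
        exact Nat.mul_le_mul horb hs

end CfsgLib.Recog.McL275
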