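import Cfsg.Agent.Lib.Recog.McL275.Tables
import Mathlib.GroupTheory.PGroup

/-!
A 3-subgroup of the point stabiliser in the permutation model of `PSU₄(3)`, its orbits, and the orbits
of the stabiliser.
-/

set_option autoImplicit false
set_option maxRecDepth 100000
set_option Elab.async false

namespace CfsgLib.Recog.McL275

open CfsgLib.KnownA.PermCert CfsgLib.KnownA.U4ThreeSchur

/-- The code of a word in a list of codes. -/
def wordIn (gs : List ℕ) (w : List ℕ) : List ℕ := w.map fun k => gs.getD k 0

/-- A polycyclic 3-series. -/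
def pcOK : List ℕ → List ℕ → List (List (List ℕ) × List ℕ) → Bool
  | _, [], [] => true
  | done, x :: xs, (cs, w) :: rs =>
    valid 112 x && (cs.all fun v => v.all fun k => Nat.blt k done.length) &&
      (w.all fun k => Nat.blt k done.length) &&
      Nat.beq cs.length done.length &&
      ((List.range done.length).all fun j =>
        eqW 112 [x, done.getD j 0] (wordIn done (cs.getD j []) ++ [x])) &&
      eqW 112 [x, x, x] (wordIn done w) && pcOK (done ++ [x]) xs rs
  | _, _, _ => false

theorem prodW_append (n : ℕ) (L L' : List ℕ) : prodW n (L ++ L') = prodW n L * prodW n L' := by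
  simp [prodW]

theorem prodW_mem {gens : List ℕ} : ∀ {L : List ℕ}, (∀ c ∈ L, c ∈ gens) →
    prodW 112 L ∈ genGroup 112 gens
  | [], _ => by simp [prodW]
  | c :: L, h => by
    show permOf 112 c * prodW 112 L ∈ _
    exact mul_mem (mem_genGroup (h c (List.mem_cons_self ..)))
      (prodW_mem fun d hd => h d (List.mem_cons_of_mem _ hd))

theorem wordIn_mem {gs w : List ℕ} (h : ∀ k ∈ w, k < gs.length) : ∀ c ∈ wordIn gs w, c ∈ gs := by
  intro c hc
  obtain ⟨k, hk, rfl⟩ := List.mem_map.1 hc
  rw [List.getD_eq_getElem _ _ (h k hk)]
  exact List.getElem_mem _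

theorem pcOK_sound : ∀ {xs done : List ℕ} {rs : List (List (List ℕ) × List ℕ)},
    pcOK done xs rs = true → (∀ c ∈ done, valid 112 c = true) →
    IsPGroup 3 (genGroup 112 done) → IsPGroup 3 (genGroup 112 (done ++ xs))
  | [], done, rs, _, _, hp => by rw [List.append_nil]; exact hp
  | x :: xs, done, [], h, _, _ => by simp [pcOK] at h
  | x :: xs, done, (cs, w) :: rs, h, hv, hp => by
    simp only [pcOK, Bool.and_eq_true, List.all_eq_true, Nat.blt_eq, List.mem_range] at h
    obtain ⟨⟨⟨⟨⟨⟨hx, hcs⟩, hw⟩, hlen⟩, hconj⟩, hcube⟩, hrest⟩ := h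
    have hlen := Nat.eq_of_beq_eq_true hlen
    set N := genGroup 112 done with hN
    set g := permOf 112 x with hg
    have hvw : ∀ v : List ℕ, (∀ k ∈ v, k < done.length) → ∀ c ∈ wordIn done v, valid 112 c = true :=
      fun v hv' c hc => hv c (wordIn_mem hv' c hc)
    have hnorm : N.map (MulAut.conj g).toMonoidHom ≤ N := by
      rw [hN, genGroup, MonoidHom.map_closure, Subgroup.closure_le]
      rintro _ ⟨_, ⟨c, hc, rfl⟩, rfl⟩
      obtain ⟨j, hj, rfl⟩ := List.getElem_of_mem hc
      have hv' : ∀ k ∈ cs.getD j [], k < done.length := by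
        rw [List.getD_eq_getElem _ _ (hlen ▸ hj)]
        exact hcs _ (List.getElem_mem _)
      have e := (eqW_iff (L := [x, done.getD j 0]) (L' := wordIn done (cs.getD j []) ++ [x])
        (by
          intro d hd
          simp only [List.mem_cons, List.not_mem_nil, or_false, List.getD_eq_getElem _ _ hj] at hd
          rcases hd with rfl | rfl
          · exact hx
          · exact hv _ hc) (by
          intro d hd
          rcases List.mem_append.1 hd with hd | hd
          · exact hvw _ hv' d hd
          · rw [List.mem_singleton.1 hd]; exact hx)).1 (hconj j hj)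
      rw [prodW_append] at e
      simp only [prodW, List.map_cons, List.map_nil, List.prod_cons, List.prod_nil, mul_one,
        List.getD_eq_getElem _ _ hj] at e
      show g * permOf 112 done[j] * g⁻¹ ∈ N
      rw [hg, e, mul_inv_cancel_right]
      exact prodW_mem (wordIn_mem hv')
    have hgn : g ∈ Subgroup.normalizer (N : Set (Equiv.Perm (Fin 112))) := by
      have he : N.map (MulAut.conj g).toMonoidHom = N :=
        Subgroup.eq_of_le_of_card_ge hnorm
          (le_of_eq (Subgroup.card_map_of_injective (MulAut.conj g).injective).symm)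
      rw [Subgroup.mem_normalizer_iff]
      intro y
      conv_rhs => rw [← he, Subgroup.mem_map_equiv]
      simp [mul_assoc]
    have h3 : g ^ 3 ∈ N := by
      have e := (eqW_iff (L := [x, x, x]) (L' := wordIn done w) (by simp [hx]) (hvw w hw)).1 hcube
      simp only [prodW, List.map_cons, List.map_nil, List.prod_cons, List.prod_nil, mul_one] at e
      rw [pow_succ, pow_two, mul_assoc, hg, e]
      exact prodW_mem (wordIn_mem hw)
    have hgp : IsPGroup 3 (Subgroup.zpowers g) := by
      obtain ⟨k, hk⟩ := hp ⟨g ^ 3, h3⟩
      have hk' : g ^ 3 ^ (k + 1) = 1 := by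
        have := congrArg Subtype.val hk
        simpa [pow_succ', pow_mul] using this
      rintro ⟨_, z, rfl⟩
      refine ⟨k + 1, Subtype.ext ?_⟩
      show (g ^ z) ^ 3 ^ (k + 1) = 1
      rw [← zpow_natCast, ← zpow_mul, mul_comm, zpow_mul, zpow_natCast, hk', one_zpow]
    have hsup : IsPGroup 3 (genGroup 112 (done ++ [x])) := by
      have hle : genGroup 112 (done ++ [x]) ≤ Subgroup.zpowers g ⊔ N := by
        refine genGroup_le fun c hc => ?_
        rcases List.mem_append.1 hc with hc | hc
        · exact Subgroup.mem_sup_right (mem_genGroup hc)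
        · rw [List.mem_singleton.1 hc]
          exact Subgroup.mem_sup_left (Subgroup.mem_zpowers g)
      exact (hgp.to_sup_of_normal_right' hp (Subgroup.zpowers_le.2 hgn)).to_le hle
    have := pcOK_sound (rs := rs) hrest (fun c hc => by
      rcases List.mem_append.1 hc with hc | hc
      · exact hv c hc
      · rw [List.mem_singleton.1 hc]; exact hx) hsup
    rw [show done ++ x :: xs = done ++ [x] ++ xs by simp]
    exact this

theorem produced_U : producedBy gensH opsU gensU = true := by decide +kernel

theorem pc_U : pcOK [] gensU relsU = true := by decide +kernel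

theorem gensH_facts : gensH.all (fun c => valid 112 c && Nat.beq (pimg c 0) 0) = true := by decide +kernel

theorem gensG_facts : gensG.all (valid 112) = true := by decide +kernel

theorem orbit27_ok : closesTo (stepOK gensU) orbit27 rep27 mask27 = true := by decide +kernel

theorem orbit81_ok : closesTo (stepOK gensU) orbit81 rep81 mask81 = true := by decide +kernel

theorem orbit3_ok : closesTo (stepOK gensU) orbit3 rep3 mask3 = true := by decide +kernel

theorem near_ok : closesTo (stepOK gensH) nearSteps repNear (aRow 0) = true := by decide +kernel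

theorem far_ok : closesTo (stepOK gensH) farSteps repFar maskFar = true := by decide +kernel

theorem all_ok : closesTo (stepOK gensG) allSteps 0 (2 ^ 112 - 1) = true := by decide +kernel

/-- The sizes and the covering of the masks. -/
noncomputable def masksOK : Bool :=
  Nat.beq (popN 14 mask27) 27 && Nat.beq (popN 14 mask81) 81 && Nat.beq (popN 14 mask3) 3 &&
  Nat.beq (popN 14 (aRow 0)) 30 && Nat.beq (popN 14 maskFar) 81 &&
  Nat.beq (1 ||| mask27 ||| mask81 ||| mask3) (2 ^ 112 - 1) &&
  Nat.beq (1 ||| aRow 0 ||| maskFar) (2 ^ 112 - 1) &&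
  Nat.beq (1 ||| mask3) (lineOne.foldl (fun m a => m ||| (1 <<< a)) 0) && lineOne.all (fun a => Nat.blt a 112)

theorem masks_ok : masksOK = true := by decide +kernel

/-- The images of the line under a word. -/
def lineImg (k : ℕ) : List ℕ := lineOne.map (actW (wordIn gensH (lineWords.getD k [])))

/-- The words send the line to five lines. -/
def wordsOK : Bool :=
  Nat.beq lineWords.length 5 && (lineWords.all fun w => w.all fun k => Nat.blt k gensH.length) &&
    ((List.range 5).all fun i => (List.range i).all fun j =>
      (lineImg i).any fun a => (lineImg j).all fun b => !Nat.beq a b)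

theorem words_ok : wordsOK = true := by decide +kernel

/-- The 3-subgroup. -/
noncomputable abbrev UP : Subgroup (Equiv.Perm (Fin 112)) := genGroup 112 gensU

theorem gensH_valid : ∀ c ∈ gensH, valid 112 c = true := fun c hc => by
  have := List.all_eq_true.1 gensH_facts c hc
  rw [Bool.and_eq_true] at this
  exact this.1

theorem gensU_facts : ∀ c ∈ gensU, valid 112 c = true ∧ permOf 112 c ∈ genGroup 112 gensH :=
  mem_of_producedBy produced_U

theorem gensU_valid : ∀ c ∈ gensU, valid 112 c = true := fun c hc => (gensU_facts c hc).1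

theorem UP_le : UP ≤ genGroup 112 gensH := genGroup_le fun c hc => (gensU_facts c hc).2

theorem isPGroup_UP : IsPGroup 3 UP := by
  have := pcOK_sound pc_U (fun c hc => absurd hc List.not_mem_nil) (by
    have : genGroup 112 ([] : List ℕ) = ⊥ := by
      rw [genGroup, Subgroup.closure_eq_bot_iff]; simp
    rw [this]; exact IsPGroup.of_bot)
  simpa using this

theorem genH_fix : ∀ σ ∈ genGroup 112 gensH, σ p0 = p0 := by
  intro σ hσ
  have hle : genGroup 112 gensH ≤ MulAction.stabilizer (Equiv.Perm (Fin 112)) p0 := by
    refine genGroup_le fun c hc => Fin.ext ?_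
    have := List.all_eq_true.1 gensH_facts c hc
    rw [Bool.and_eq_true] at this
    show ((permOf 112 c p0 : Fin 112) : ℕ) = 0
    rw [permOf_val this.1]
    exact Nat.eq_of_beq_eq_true this.2
  exact hle hσ

theorem GP_trans (i : Fin 112) : ∃ σ ∈ GP, σ p0 = i := by
  refine orbit_reach (List.all_eq_true.1 gensG_facts) (r := p0) all_ok i ?_
  rw [Nat.testBit_two_pow_sub_one]
  exact decide_eq_true i.2

theorem mask_cover (i : Fin 112) (hi : i ≠ p0) :
    mask27.testBit i = true ∨ mask81.testBit i = true ∨ mask3.testBit i = true := by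
  have h := masks_ok
  simp only [masksOK, Bool.and_eq_true] at h
  have e := congrArg (fun m => m.testBit i) (Nat.eq_of_beq_eq_true h.1.1.1.2)
  simp only [Nat.testBit_or, Nat.testBit_two_pow_sub_one, i.2, decide_true, Bool.or_eq_true] at e
  have h0 : Nat.testBit 1 i = false := by
    rw [Nat.testBit_one_eq_true_iff_self_eq_zero.not.2 (fun h0 => hi (Fin.ext h0)) |> Bool.eq_false_iff.2]
  rw [h0] at e
  simpa [or_assoc] using e

theorem near_far (i : Fin 112) (hi : i ≠ p0) :
    (aRow 0).testBit i = true ∨ maskFar.testBit i = true := by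
  have h := masks_ok
  simp only [masksOK, Bool.and_eq_true] at h
  have e := congrArg (fun m => m.testBit i) (Nat.eq_of_beq_eq_true h.1.1.2)
  simp only [Nat.testBit_or, Nat.testBit_two_pow_sub_one, i.2, decide_true, Bool.or_eq_true] at e
  rcases e with (e | e) | e
  · exact absurd (Fin.ext (Nat.testBit_one_eq_true_iff_self_eq_zero.1 e)) hi
  · exact Or.inl e
  · exact Or.inr e

end CfsgLib.Recog.McL275
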