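import Cfsg.Agent.Lib.Recog.McL275.Model
import Cfsg.Prelude.Def_Spor_Conway

/-! The official `McL` as the stabiliser of the two lattice vectors. -/

set_option autoImplicit false
set_option maxRecDepth 100000
set_option Elab.async false

namespace CfsgLib.Recog.McL275

open Cfsg CfsgLib.Golay

theorem leechV_eq : Spor.leechV = -fiveV :=
  Subtype.ext (funext (by decide +kernel : ∀ i, Spor.vecV i = -five i))

theorem leechU_eq : Spor.leechU = min44 :=
  Subtype.ext (funext (by decide +kernel : ∀ i, Spor.vecU i = (min44 : GolayPt → ℤ) i))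

theorem mem_sporMcL_iff {g : Equiv.Perm leechLattice} :
    g ∈ Spor.McL ↔ ∃ h : g ∈ Co0, (⟨g, h⟩ : Co0) ∈ mclGroup := by
  constructor
  · rintro ⟨⟨h0, hV⟩, hU⟩
    refine ⟨h0, ?_, ?_⟩
    · have hV' : (⟨g, h0⟩ : Co0) • Spor.leechV = Spor.leechV := hV
      rw [leechV_eq, co0_neg, neg_inj] at hV'
      exact hV'
    · have hU' : (⟨g, h0⟩ : Co0) • Spor.leechU = Spor.leechU := hU
      rwa [leechU_eq] at hU'
  · rintro ⟨h0, h1, h2⟩
    refine ⟨⟨h0, ?_⟩, ?_⟩
    · show (⟨g, h0⟩ : Co0) • Spor.leechV = Spor.leechV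
      rw [leechV_eq, co0_neg, h1]
    · show (⟨g, h0⟩ : Co0) • Spor.leechU = Spor.leechU
      rw [leechU_eq]
      exact h2

/-- The identification with the official group. -/
noncomputable def officialEquiv : mclGroup ≃* Spor.McL where
  toFun g := ⟨g.1.1, mem_sporMcL_iff.2 ⟨g.1.2, g.2⟩⟩
  invFun g := ⟨⟨g.1, (mem_sporMcL_iff.1 g.2).choose⟩, (mem_sporMcL_iff.1 g.2).choose_spec⟩
  left_inv g := rfl
  right_inv g := rfl
  map_mul' g h := rfl

end CfsgLib.Recog.McL275
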