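import Cfsg.Agent.Lib.Recog.McL275.Tables

/-!
The search for the sets of 56 points meeting every line in two points.
-/

set_option autoImplicit false
set_option maxRecDepth 100000
set_option Elab.async false

namespace CfsgLib.Recog.McL275

open CfsgLib.KnownA.PermCert CfsgLib.KnownA.U4ThreeSchur

/-- The leaf of a listed set. -/
def leafOK (j I O : ℕ) : Bool :=
  Nat.blt j 648 && Nat.beq (I ||| O) (2 ^ 112 - 1) &&
    eagerN (sigAt (j / 162)) fun c => eagerN (mSet (j % 162)) fun s =>
      (List.range 112).all fun i => I.testBit (pimg c i) == s.testBit i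

/-- A leaf of the top of the search: one of the listed states. -/
def topLeaf (j I O : ℕ) : Bool :=
  match frontStates[j]? with
  | some s => Nat.beq s.1 I && Nat.beq s.2 O
  | none => false

theorem top_ok : runSearch lineAt topLeaf topTokens [(0, 0)] = true := by decide +kernel

theorem front_length : frontStates.length = 30 := by decide +kernel

/-- The search below a listed state. -/
def subOK (j : ℕ) (toks : List ℕ) : Bool :=
  runSearch lineAt leafOK toks [frontStates.getD j (0, 0)]

theorem sub_ok0 : subOK 0 subTokens0 = true := by decide +kernel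

theorem sub_ok1 : subOK 1 subTokens1 = true := by decide +kernel

theorem sub_ok2 : subOK 2 subTokens2 = true := by decide +kernel

theorem sub_ok3 : subOK 3 subTokens3 = true := by decide +kernel

theorem sub_ok4 : subOK 4 subTokens4 = true := by decide +kernel

theorem sub_ok5 : subOK 5 subTokens5 = true := by decide +kernel

theorem sub_ok6 : subOK 6 subTokens6 = true := by decide +kernel

theorem sub_ok7 : subOK 7 subTokens7 = true := by decide +kernel

theorem sub_ok8 : subOK 8 subTokens8 = true := by decide +kernel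

theorem sub_ok9 : subOK 9 subTokens9 = true := by decide +kernel

theorem sub_ok10 : subOK 10 subTokens10 = true := by decide +kernel

theorem sub_ok11 : subOK 11 subTokens11 = true := by decide +kernel

theorem sub_ok12 : subOK 12 subTokens12 = true := by decide +kernel

theorem sub_ok13 : subOK 13 subTokens13 = true := by decide +kernel

theorem sub_ok14 : subOK 14 subTokens14 = true := by decide +kernel

theorem sub_ok15 : subOK 15 subTokens15 = true := by decide +kernel

theorem sub_ok16 : subOK 16 subTokens16 = true := by decide +kernel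

theorem sub_ok17 : subOK 17 subTokens17 = true := by decide +kernel

theorem sub_ok18 : subOK 18 subTokens18 = true := by decide +kernel

theorem sub_ok19 : subOK 19 subTokens19 = true := by decide +kernel

theorem sub_ok20 : subOK 20 subTokens20 = true := by decide +kernel

theorem sub_ok21 : subOK 21 subTokens21 = true := by decide +kernel

theorem sub_ok22 : subOK 22 subTokens22 = true := by decide +kernel

theorem sub_ok23 : subOK 23 subTokens23 = true := by decide +kernel

theorem sub_ok24 : subOK 24 subTokens24 = true := by decide +kernel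

theorem sub_ok25 : subOK 25 subTokens25 = true := by decide +kernel

theorem sub_ok26 : subOK 26 subTokens26 = true := by decide +kernel

theorem sub_ok27 : subOK 27 subTokens27 = true := by decide +kernel

theorem sub_ok28 : subOK 28 subTokens28 = true := by decide +kernel

theorem sub_ok29 : subOK 29 subTokens29 = true := by decide +kernel

theorem all_sub : ∀ j < 30, ∃ toks, subOK j toks = true
  | 0, _ => ⟨_, sub_ok0⟩
  | 1, _ => ⟨_, sub_ok1⟩
  | 2, _ => ⟨_, sub_ok2⟩
  | 3, _ => ⟨_, sub_ok3⟩
  | 4, _ => ⟨_, sub_ok4⟩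
  | 5, _ => ⟨_, sub_ok5⟩
  | 6, _ => ⟨_, sub_ok6⟩
  | 7, _ => ⟨_, sub_ok7⟩
  | 8, _ => ⟨_, sub_ok8⟩
  | 9, _ => ⟨_, sub_ok9⟩
  | 10, _ => ⟨_, sub_ok10⟩
  | 11, _ => ⟨_, sub_ok11⟩
  | 12, _ => ⟨_, sub_ok12⟩
  | 13, _ => ⟨_, sub_ok13⟩
  | 14, _ => ⟨_, sub_ok14⟩
  | 15, _ => ⟨_, sub_ok15⟩
  | 16, _ => ⟨_, sub_ok16⟩
  | 17, _ => ⟨_, sub_ok17⟩
  | 18, _ => ⟨_, sub_ok18⟩
  | 19, _ => ⟨_, sub_ok19⟩
  | 20, _ => ⟨_, sub_ok20⟩
  | 21, _ => ⟨_, sub_ok21⟩
  | 22, _ => ⟨_, sub_ok22⟩
  | 23, _ => ⟨_, sub_ok23⟩
  | 24, _ => ⟨_, sub_ok24⟩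
  | 25, _ => ⟨_, sub_ok25⟩
  | 26, _ => ⟨_, sub_ok26⟩
  | 27, _ => ⟨_, sub_ok27⟩
  | 28, _ => ⟨_, sub_ok28⟩
  | 29, _ => ⟨_, sub_ok29⟩
  | n + 30, h => absurd h (by omega)

end CfsgLib.Recog.McL275
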