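import Cfsg.Agent.Lib.Recog.McL275.Tables

/-!
Finite checks on the lines and the listed sets of 56 points.
-/

set_option autoImplicit false
set_option maxRecDepth 100000
set_option Elab.async false

namespace CfsgLib.Recog.McL275

open CfsgLib.KnownA.PermCert CfsgLib.KnownA.U4ThreeSchur

theorem sigmas_ok : ((List.range 4).all fun k => valid 112 (sigAt k)) = true := by decide +kernel

/-- Every point is on ten lines, and two points are on one common line exactly when they are collinear. -/
noncomputable def incidenceOK : Bool :=
  (List.range 112).all fun p => eagerN (lMask p) fun m => (List.range 112).all fun q =>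
    Nat.beq (eagerN (m &&& lMask q) fun w => popN 35 w)
      (bif Nat.beq p q then 10 else bif (aRow p).testBit q then 1 else 0)

theorem incidence_ok : incidenceOK = true := by decide +kernel

/-- The lines are those of the incidence masks. -/
def linesOK : Bool :=
  (List.range 280).all fun k =>
    ((List.range 112).filter fun p => (lMask p).testBit k) == lineAt k

theorem lines_ok : linesOK = true := by decide +kernel

theorem mSets_distinct : distinctN ((List.range 162).map mSet) = true := by decide +kernel

/-- The rows are invariant under the generators and the symmetries. -/
def invOK : Bool :=
  (gensG ++ (List.range 4).map sigAt).all fun c => valid 112 c &&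
    (List.range 112).all fun i => eagerN (aRow (pimg c i)) fun r' => eagerN (aRow i) fun r =>
      (List.range 112).all fun j => r'.testBit (pimg c j) == r.testBit j

theorem inv_ok : invOK = true := by decide +kernel

/-- A generator seen through a symmetry permutes the listed sets as tabled. -/
def tableOK : Bool :=
  (List.range 4).all fun k => (List.range 2).all fun g =>
    let c := conjCodes.getD (2 * k + g) 0
    valid 112 c && eqW 112 [gensG.getD g 0, sigAt k] [sigAt k, c] &&
    (List.range 162).all fun j =>
      eagerN (mSet ((setTables.getD (2 * k + g) []).getD j 0)) fun s' => eagerN (mSet j) fun s =>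
        (List.range 112).all fun x => s'.testBit (pimg c x) == s.testBit x

theorem table_ok : tableOK = true := by decide +kernel

/-- A step between sets. -/
def setStepOK (k : ℕ) (x g y : ℕ) : Bool :=
  Nat.blt g 2 && Nat.blt x 162 && Nat.beq ((setTables.getD (2 * k + g) []).getD x 0) y

theorem steps_ok : ((List.range 4).all fun k =>
    closesTo (setStepOK k) (setSteps.getD k []) 0 (2 ^ 162 - 1)) = true := by decide +kernel

/-- For every set, 56 others meet it in at most 30 points. -/
noncomputable def meetOK : Bool :=
  (List.range 162).all fun j =>
    eagerN (mSet j) fun s => Nat.beq ((List.range 162).countP fun j' =>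
      !Nat.beq j' j && eagerN (s &&& mSet j') fun w => Nat.ble (popN 14 w) 30) 56

theorem meet_ok : meetOK = true := by decide +kernel

/-- Collinear points have two further points collinear with both. -/
noncomputable def commonOK : Bool :=
  (List.range 112).all fun i => eagerN (aRow i) fun r => Nat.beq (popN 14 r) 30 && !r.testBit i &&
    (List.range 112).all fun j => r.testBit j == (aRow j).testBit i &&
      (!r.testBit j || eagerN (r &&& aRow j) fun w => Nat.beq (popN 14 w) 2)

theorem common_ok : commonOK = true := by decide +kernel

end CfsgLib.Recog.McL275
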