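import Cfsg.Agent.Lib.Recog.McL275.SearchCheck
import Cfsg.Agent.Lib.Recog.McL275.SetsChecks
import Mathlib.Tactic.IntervalCases

/-!
The sets of 56 of the 112 points meeting every line in two points, and the action of the model on their
four families.
-/

set_option autoImplicit false
set_option maxRecDepth 100000
set_option Elab.async false

namespace CfsgLib.Recog.McL275

open CfsgLib.KnownA.PermCert CfsgLib.KnownA.U4ThreeSchur

theorem nearP_facts (i j : Fin 112) :
    (Finset.univ.filter fun z : Fin 112 => nearP i z = true).card = 30 ∧ nearP i i = false ∧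
      nearP i j = nearP j i ∧ (nearP i j = true →
        (Finset.univ.filter fun z : Fin 112 => (nearP i z && nearP j z) = true).card = 2) := by
  have h := common_ok
  simp only [commonOK, eagerN_eq, Bool.and_eq_true, List.all_eq_true, List.mem_range, Bool.not_eq_true',
    beq_iff_eq, Bool.or_eq_true] at h
  obtain ⟨⟨h1, h2⟩, h3⟩ := h i i.2
  obtain ⟨h4, h5⟩ := h3 j j.2
  refine ⟨(popN_card (k := 112) rfl).symm.trans (Nat.eq_of_beq_eq_true h1), h2, h4, fun hn => ?_⟩
  rcases h5 with h5 | h5
  · exact absurd (hn.symm.trans h5) (by simp)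
  · refine Eq.trans ?_ (Nat.eq_of_beq_eq_true h5)
    rw [popN_card (k := 112) rfl]
    simp [nearP, Nat.testBit_and]

theorem nearP_inv {c : ℕ} (hc : c ∈ gensG ++ (List.range 4).map sigAt) (i j : Fin 112) :
    valid 112 c = true ∧ nearP (permOf 112 c i) (permOf 112 c j) = nearP i j := by
  have h := inv_ok
  simp only [invOK, eagerN_eq, Bool.and_eq_true, List.all_eq_true, List.mem_range, beq_iff_eq] at h
  refine ⟨(h c hc).1, ?_⟩
  rw [nearP, nearP, permOf_val (h c hc).1, permOf_val (h c hc).1]
  exact (h c hc).2 i i.2 j j.2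

theorem nearP_GP {σ : Equiv.Perm (Fin 112)} (hσ : σ ∈ GP) (i j : Fin 112) :
    nearP (σ i) (σ j) = nearP i j := by
  have hle : GP ≤ ({ carrier := {σ | ∀ i j, nearP (σ i) (σ j) = nearP i j}
                     mul_mem' := fun {σ τ} hσ hτ i j => (hσ (τ i) (τ j)).trans (hτ i j)
                     one_mem' := fun _ _ => rfl
                     inv_mem' := fun {σ} h i j => by
                       simpa using (h (σ⁻¹ i) (σ⁻¹ j)).symm } : Subgroup (Equiv.Perm (Fin 112))) :=
    genGroup_le fun c hc i j => (nearP_inv (List.mem_append_left _ hc) i j).2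
  exact hle hσ i j

/-- The symmetry with a given number. -/
noncomputable def sigP (k : Fin 4) : Equiv.Perm (Fin 112) := permOf 112 (sigAt k)

theorem nearP_sigP (k : Fin 4) (i j : Fin 112) : nearP (sigP k i) (sigP k j) = nearP i j :=
  (nearP_inv (List.mem_append_right _ (List.mem_map.2 ⟨k, List.mem_range.2 k.2, rfl⟩)) i j).2

theorem mSet_inj {j j' : Fin 162} (h : ∀ x : Fin 112, (mSet j).testBit x = (mSet j').testBit x) :
    j = j' := by
  refine Fin.ext (List.inj_on_of_nodup_map (distinctN_nodup mSets_distinct)
    (List.mem_range.2 j.2) (List.mem_range.2 j'.2) (Nat.eq_of_testBit_eq fun i => ?_))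
  by_cases hi : i < 112
  · exact h ⟨i, hi⟩
  · rw [mSet, mSet, Nat.testBit_mod_two_pow, Nat.testBit_mod_two_pow]
    simp [hi]

/-- Two sets are moved to each other by the model, seen through a symmetry. -/
def Moves (k : Fin 4) (j j' : ℕ) : Prop :=
  ∃ σ : GP, ∀ x y : Fin 112, (σ : Equiv.Perm (Fin 112)) (sigP k x) = sigP k y →
    (mSet j').testBit y = (mSet j).testBit x

theorem Moves.trans {k : Fin 4} {a b c : ℕ} (h : Moves k a b) (h' : Moves k b c) : Moves k a c := by
  obtain ⟨σ, hσ⟩ := h
  obtain ⟨τ, hτ⟩ := h'
  refine ⟨τ * σ, fun x y e => ?_⟩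
  obtain ⟨z, hz⟩ := (sigP k).surjective ((σ : Equiv.Perm (Fin 112)) (sigP k x))
  exact (hτ z y (by rw [hz]; exact e)).trans (hσ x z hz.symm)

theorem Moves.symm {k : Fin 4} {a b : ℕ} (h : Moves k a b) : Moves k b a := by
  obtain ⟨σ, hσ⟩ := h
  refine ⟨σ⁻¹, fun x y e => (hσ y x ?_).symm⟩
  rw [← e, Subgroup.coe_inv, Equiv.Perm.coe_inv, Equiv.apply_symm_apply]

theorem moves_all (k : Fin 4) (j j' : Fin 162) : Moves k j j' := by
  have h := steps_ok
  simp only [List.all_eq_true, List.mem_range] at h
  have hr : ∀ i : ℕ, (2 ^ 162 - 1).testBit i = true → Moves k 0 i := by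
    refine closesTo_sound (h k k.2) (fun x g y hs hx => hx.trans ?_)
      ⟨1, fun x y e => by rw [(sigP k).injective e]⟩
    simp only [setStepOK, Bool.and_eq_true, Nat.blt_eq] at hs
    obtain ⟨⟨hg, hx'⟩, hy⟩ := hs
    have hy := Nat.eq_of_beq_eq_true hy
    have ht := table_ok
    simp only [tableOK, eagerN_eq, Bool.and_eq_true, List.all_eq_true, List.mem_range, beq_iff_eq] at ht
    obtain ⟨⟨hc, he⟩, htab⟩ := ht k k.2 g hg
    have hgm : gensG.getD g 0 ∈ gensG := by
      rw [List.getD_eq_getElem _ _ (by exact hg)]; exact List.getElem_mem _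
    have hgv : valid 112 (gensG.getD g 0) = true :=
      (nearP_inv (List.mem_append_left _ hgm) p0 p0).1
    have hsv : valid 112 (sigAt k) = true :=
      (nearP_inv (List.mem_append_right _ (List.mem_map.2 ⟨k, List.mem_range.2 k.2, rfl⟩)) p0 p0).1
    have e := (eqW_iff (L := [gensG.getD g 0, sigAt k])
      (L' := [sigAt k, conjCodes.getD (2 * k + g) 0]) (by
        intro d hd
        simp only [List.mem_cons, List.not_mem_nil, or_false] at hd
        rcases hd with rfl | rfl
        · exact hgv
        · exact hsv) (by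
        intro d hd
        simp only [List.mem_cons, List.not_mem_nil, or_false] at hd
        rcases hd with rfl | rfl
        · exact hsv
        · exact hc)).1 he
    simp only [prodW, List.map_cons, List.map_nil, List.prod_cons, List.prod_nil, mul_one] at e
    refine ⟨⟨permOf 112 (gensG.getD g 0), mem_genGroup hgm⟩, fun a b hab => ?_⟩
    have e' := DFunLike.congr_fun e a
    simp only [Equiv.Perm.mul_apply] at e'
    have hb : permOf 112 (conjCodes.getD (2 * k + g) 0) a = b :=
      (sigP k).injective (e'.symm.trans hab)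
    rw [← hy, ← hb, permOf_val hc]
    exact htab x hx' a a.2
  have hj : ∀ i : Fin 162, Moves k 0 i := fun i => hr i (by
    rw [Nat.testBit_two_pow_sub_one]; exact decide_eq_true i.2)
  exact (hj j).symm.trans (hj j')

theorem sum_sq_zero {n : ℕ} (c : Fin n → ℕ) (h1 : ∑ l, c l = 2 * n) (h2 : ∑ l, c l * c l = 4 * n)
    (l : Fin n) : c l = 2 := by
  have h : ∑ l, ((c l : ℤ) - 2) * ((c l : ℤ) - 2) = 0 := by
    have e1 : (∑ l, (c l : ℤ)) = 2 * n := by exact_mod_cast h1
    have e2 : (∑ l, (c l : ℤ) * c l) = 4 * n := by exact_mod_cast h2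
    calc ∑ l, ((c l : ℤ) - 2) * ((c l : ℤ) - 2)
        = ∑ l, ((c l : ℤ) * c l - 4 * c l + 4) := Finset.sum_congr rfl fun l _ => by ring
      _ = 0 := by
          rw [Finset.sum_add_distrib, Finset.sum_sub_distrib, ← Finset.mul_sum, e1, e2]
          simp
          ring
  have := (Finset.sum_eq_zero_iff_of_nonneg fun l _ => mul_self_nonneg _).1 h l (Finset.mem_univ _)
  have := mul_self_eq_zero.1 this
  omega

theorem classify_sets (S : Fin 112 → Bool) (hcard : ∑ p, (S p).toNat = 56)
    (hpairs : ∑ p, ∑ q, (S p).toNat * (S q).toNat * (nearP p q).toNat = 560) :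
    ∃ (k : Fin 4) (j : Fin 162), ∀ i, S (sigP k i) = (mSet j).testBit i := by
  classical
  let inc : Fin 112 → Fin 280 → ℕ := fun p l => ((lMask p).testBit l).toNat
  have hinc : ∀ p q : Fin 112, ∑ l, inc p l * inc q l =
      if p = q then 10 else (nearP p q).toNat := by
    intro p q
    have h := incidence_ok
    simp only [incidenceOK, eagerN_eq, List.all_eq_true, List.mem_range] at h
    have h' := Nat.eq_of_beq_eq_true (h p p.2 q q.2)
    rw [popN_eq, Finset.sum_range] at h'
    calc ∑ l, inc p l * inc q l
        = ∑ i : Fin (8 * 35), ((lMask p &&& lMask q).testBit i).toNat :=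
          Finset.sum_congr rfl fun l _ => by
            rw [Nat.testBit_and]
            simp only [inc]
            cases (lMask p).testBit l <;>
              cases (lMask q).testBit l <;> rfl
      _ = _ := h'
      _ = _ := by
          by_cases e : p = q
          · subst e; rw [if_pos rfl, Nat.beq_refl, cond_true]
          · rw [if_neg e]
            cases hb : Nat.beq (p : ℕ) q with
            | true => exact absurd (Fin.ext (Nat.eq_of_beq_eq_true hb)) e
            | false =>
              rw [cond_false]
              show (bif nearP p q then 1 else 0) = _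
              cases nearP p q <;> rfl
  let c : Fin 280 → ℕ := fun l => ∑ p, (S p).toNat * inc p l
  have hpp : ∀ p, ∑ l, inc p l = 10 := fun p => by
    have := hinc p p
    rw [if_pos rfl] at this
    refine Eq.trans (Finset.sum_congr rfl fun l _ => ?_) this
    simp only [inc]
    cases (lMask p).testBit l <;> rfl
  have hc1 : ∑ l, c l = 2 * 280 := by
    simp only [c]
    rw [Finset.sum_comm]
    simp_rw [← Finset.mul_sum, hpp, ← Finset.sum_mul, hcard]
    norm_num
  have hc2 : ∑ l, c l * c l = 4 * 280 := by
    have hsq : ∀ l, c l * c l = ∑ p, ∑ q, (S p).toNat * (S q).toNat * (inc p l * inc q l) := fun l => by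
      simp only [c, Finset.sum_mul_sum]
      exact Finset.sum_congr rfl fun p _ => Finset.sum_congr rfl fun q _ => by ring
    simp_rw [hsq]
    rw [Finset.sum_comm]
    have hsplit : ∀ p q : Fin 112, ∑ l, (S p).toNat * (S q).toNat * (inc p l * inc q l) =
        (S p).toNat * (S q).toNat * (nearP p q).toNat + if p = q then (S p).toNat * 10 else 0 := by
      intro p q
      rw [← Finset.mul_sum, hinc]
      by_cases e : p = q
      · subst e
        rw [if_pos rfl, if_pos rfl, (nearP_facts p p).2.1]
        cases S p <;> rfl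
      · rw [if_neg e, if_neg e, add_zero]
    refine (Finset.sum_congr rfl fun p _ => Finset.sum_comm).trans ?_
    simp_rw [hsplit, Finset.sum_add_distrib, Finset.sum_ite_eq, Finset.mem_univ, if_true,
      ← Finset.sum_mul, hcard, hpairs]
    norm_num
  have hc := sum_sq_zero c hc1 hc2
  let S' : ℕ → Bool := fun i => if h : i < 112 then S ⟨i, h⟩ else false
  have hlines : ∀ l : Fin 280, (lineAt l).countP S' = 2 := by
    intro l
    have h := lines_ok
    simp only [linesOK, List.all_eq_true, List.mem_range, beq_iff_eq] at h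
    rw [← h l l.2, List.countP_filter, List.countP_eq_length_filter,
      ← List.toFinset_card_of_nodup (List.nodup_range.filter _)]
    refine Eq.trans ?_ (hc l)
    rw [List.toFinset_filter, List.toFinset_range, Finset.card_filter, Finset.sum_range]
    refine Finset.sum_congr rfl fun p _ => ?_
    simp only [S', p.2, dif_pos, Fin.eta, inc]
    cases S p <;> cases (lMask p).testBit l <;> rfl
  have hlen : ∀ k, (lineAt k).length = 4 ∨ lineAt k = [] := fun k => by
    unfold lineAt
    rw [eagerN_eq]
    cases Nat.blt k 280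
    · exact Or.inr rfl
    · exact Or.inl rfl
  have hsigv := sigmas_ok
  simp only [List.all_eq_true, List.mem_range] at hsigv
  have hS : ∀ k, lineAt k ≠ [] → (lineAt k).countP S' = 2 := fun k hk => by
    by_cases hk' : k < 280
    · exact hlines ⟨k, hk'⟩
    · refine absurd ?_ hk
      unfold lineAt
      rw [eagerN_eq]
      cases hb : Nat.blt k 280
      · rfl
      · rw [Nat.blt_eq] at hb; exact absurd hb hk'
  refine runSearch_sound (S := S') hlen hS (fun j I O hl hf => ?_) top_ok (0, 0)
    (List.mem_singleton.2 rfl) ⟨fun i hi => by simp at hi, fun i hi => by simp at hi⟩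
  unfold topLeaf at hl
  cases hs : frontStates[j]? with
  | none => rw [hs] at hl; exact absurd hl (by simp)
  | some s =>
    obtain ⟨hjlt, -⟩ := List.getElem?_eq_some_iff.1 hs
    obtain ⟨toks, htoks⟩ := all_sub j (front_length ▸ hjlt)
    rw [hs] at hl
    simp only [Bool.and_eq_true] at hl
    have hsd : frontStates.getD j (0, 0) = (I, O) := by
      simp [hs, ← Nat.eq_of_beq_eq_true hl.1, ← Nat.eq_of_beq_eq_true hl.2]
    rw [subOK, hsd] at htoks
    refine runSearch_sound (S := S') hlen hS (fun j I O hl hf => ?_) htoks (I, O)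
      (List.mem_singleton.2 rfl) hf
    simp only [leafOK, eagerN_eq, Bool.and_eq_true, Nat.blt_eq, List.all_eq_true, List.mem_range, beq_iff_eq] at hl
    obtain ⟨⟨hj, hfull⟩, hbits⟩ := hl
    refine ⟨⟨j / 162, by omega⟩, ⟨j % 162, by omega⟩, fun i => ?_⟩
    show S (sigP ⟨j / 162, by omega⟩ i) = (mSet (j % 162)).testBit i
    rw [← hbits i i.2]
    set x := sigP ⟨j / 162, by omega⟩ i with hx
    have hxv : (x : ℕ) = pimg (sigAt (j / 162)) i := by
      rw [hx]; exact permOf_val (hsigv _ (by omega)) i
    rw [← hxv]
    have hSx : S' x = S x := by simp [S']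
    rw [← hSx]
    cases hb : I.testBit x with
    | true => exact hf.1 x hb
    | false =>
      refine hf.2 x ?_
      have e := congrArg (fun m => m.testBit x) (Nat.eq_of_beq_eq_true hfull)
      simp only [Nat.testBit_or, Nat.testBit_two_pow_sub_one, x.2, decide_true, hb, Bool.false_or] at e
      exact e

end CfsgLib.Recog.McL275
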