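import Cfsg.Agent.Lib.Recog.McL275.Natural
import Cfsg.Agent.Lib.Recog.McL275.SetsFacts

/-!
The orbital of valency 112 of a transitive group on 275 points with point stabiliser `PSU₄(3)`: collinearity
on the 112 neighbours, and the sets of 56 cut out by the other 162 points.
-/

set_option autoImplicit false
set_option maxRecDepth 100000
set_option Elab.async false

namespace CfsgLib.Recog.McL275

open CfsgLib.KnownA.PermCert CfsgLib.KnownA.U4ThreeSchur
open MulAction (orbit stabilizer mem_orbit_self)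

/-- The data of a transitive group on 275 points with suborbits of lengths 1, 112 and 162. -/
structure RankThree (Ω : Type*) [Fintype Ω] [DecidableEq Ω] where
  /-- The group. -/
  G : Subgroup (Equiv.Perm Ω)
  /-- The base point. -/
  a : Ω
  /-- A point of the orbit of length 112. -/
  b : Ω
  /-- A point of the orbit of length 162. -/
  c : Ω
  card : Fintype.card Ω = 275
  trans : ∀ x y : Ω, ∃ g : G, g • x = y
  /-- The point stabiliser. -/
  iso : GP ≃* stabilizer G a
  hb : (orbit (stabilizer G a) b).ncard = 112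
  hc : (orbit (stabilizer G a) c).ncard = 162

namespace RankThree

variable {Ω : Type*} [Fintype Ω] [DecidableEq Ω] (R : RankThree Ω)

/-- The orbital of length 112. -/
def Adj (x y : Ω) : Prop := ∃ g : R.G, g • R.a = x ∧ g • R.b = y

theorem adj_smul (g : R.G) (x y : Ω) : R.Adj (g • x) (g • y) ↔ R.Adj x y := by
  constructor
  · rintro ⟨h, h1, h2⟩
    exact ⟨g⁻¹ * h, by rw [mul_smul, h1, inv_smul_smul], by rw [mul_smul, h2, inv_smul_smul]⟩
  · rintro ⟨h, h1, h2⟩
    exact ⟨g * h, by rw [mul_smul, h1], by rw [mul_smul, h2]⟩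

open scoped _root_.Classical in
/-- The neighbours of a point. -/
noncomputable def nb (x : Ω) : Finset Ω := Finset.univ.filter fun y => R.Adj x y

theorem mem_nb {x y : Ω} : y ∈ R.nb x ↔ R.Adj x y := by simp [nb]

open scoped _root_.Classical in
/-- The orbit of length 112. -/
noncomputable def PP : Finset Ω := Finset.univ.filter fun x => x ∈ orbit (stabilizer R.G R.a) R.b

open scoped _root_.Classical in
/-- The orbit of length 162. -/
noncomputable def QQ : Finset Ω := Finset.univ.filter fun x => x ∈ orbit (stabilizer R.G R.a) R.c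

theorem mem_PP {x : Ω} : x ∈ R.PP ↔ x ∈ orbit (stabilizer R.G R.a) R.b := by simp [PP]

theorem mem_QQ {x : Ω} : x ∈ R.QQ ↔ x ∈ orbit (stabilizer R.G R.a) R.c := by simp [QQ]

theorem card_PP : R.PP.card = 112 := by
  rw [← R.hb, ← Set.ncard_coe_finset]
  exact congrArg Set.ncard (Set.ext fun x => R.mem_PP)

theorem card_QQ : R.QQ.card = 162 := by
  rw [← R.hc, ← Set.ncard_coe_finset]
  exact congrArg Set.ncard (Set.ext fun x => R.mem_QQ)

theorem a_notMem {x : Ω} (h : 1 < (orbit (stabilizer R.G R.a) x).ncard) :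
    R.a ∉ orbit (stabilizer R.G R.a) x := by
  intro ha
  rw [← MulAction.orbit_eq_iff.2 ha] at h
  have : orbit (stabilizer R.G R.a) R.a = {R.a} := by
    ext y
    constructor
    · rintro ⟨g, rfl⟩; exact g.2
    · rintro rfl; exact mem_orbit_self _
  rw [this, Set.ncard_singleton] at h
  omega

theorem a_notMem_PP : R.a ∉ R.PP := fun h => R.a_notMem (by rw [R.hb]; norm_num) (R.mem_PP.1 h)

theorem a_notMem_QQ : R.a ∉ R.QQ := fun h => R.a_notMem (by rw [R.hc]; norm_num) (R.mem_QQ.1 h)

theorem disjoint_PQ : Disjoint R.PP R.QQ := by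
  rw [Finset.disjoint_left]
  intro x hP hQ
  have h : orbit (stabilizer R.G R.a) R.b = orbit (stabilizer R.G R.a) R.c :=
    (MulAction.orbit_eq_iff.2 (R.mem_PP.1 hP)).symm.trans (MulAction.orbit_eq_iff.2 (R.mem_QQ.1 hQ))
  have := congrArg Set.ncard h
  rw [R.hb, R.hc] at this
  omega

theorem cover (x : Ω) : x = R.a ∨ x ∈ R.PP ∨ x ∈ R.QQ := by
  by_contra h
  simp only [not_or] at h
  have hlt : (insert R.a (R.PP ∪ R.QQ)).card < Fintype.card Ω :=
    Finset.card_lt_univ_of_notMem (x := x) (by simp [h.1, h.2.1, h.2.2])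
  rw [Finset.card_insert_of_notMem (by simp [R.a_notMem_PP, R.a_notMem_QQ]),
    Finset.card_union_of_disjoint R.disjoint_PQ, R.card_PP, R.card_QQ, R.card] at hlt
  omega

theorem nb_a : R.nb R.a = R.PP := by
  ext y
  rw [mem_nb, mem_PP]
  constructor
  · rintro ⟨g, h1, rfl⟩; exact ⟨⟨g, h1⟩, rfl⟩
  · rintro ⟨g, rfl⟩; exact ⟨g.1, g.2, rfl⟩

theorem nb_smul (g : R.G) (x : Ω) : R.nb (g • x) = (R.nb x).image (g • ·) := by
  ext y
  rw [mem_nb, Finset.mem_image]
  constructor
  · intro h
    refine ⟨g⁻¹ • y, R.mem_nb.2 ((R.adj_smul g x _).1 ?_), smul_inv_smul g y⟩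
    rwa [smul_inv_smul]
  · rintro ⟨z, hz, rfl⟩
    exact (R.adj_smul g x z).2 (R.mem_nb.1 hz)

theorem card_nb (x : Ω) : (R.nb x).card = 112 := by
  obtain ⟨g, rfl⟩ := R.trans R.a x
  rw [nb_smul, Finset.card_image_of_injective _ (MulAction.injective g), nb_a, card_PP]

theorem adj_symm {x y : Ω} (h : R.Adj x y) : R.Adj y x := by
  classical
  let inA : Finset Ω := Finset.univ.filter fun z => R.Adj z R.a
  have hin : ∀ x, (Finset.univ.filter fun z => R.Adj z x).card = inA.card := by
    intro x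
    obtain ⟨g, rfl⟩ := R.trans R.a x
    have : (Finset.univ.filter fun z => R.Adj z (g • R.a)) = inA.image (g • ·) := by
      ext z
      simp only [inA, Finset.mem_filter, Finset.mem_univ, true_and, Finset.mem_image]
      constructor
      · intro hz
        refine ⟨g⁻¹ • z, (R.adj_smul g _ _).1 ?_, smul_inv_smul g z⟩
        rwa [smul_inv_smul]
      · rintro ⟨w, hw, rfl⟩
        exact (R.adj_smul g _ _).2 hw
    rw [this, Finset.card_image_of_injective _ (MulAction.injective g)]
  have hcount : inA.card = 112 := by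
    have e : ∑ z : Ω, (R.nb z).card = ∑ x : Ω, (Finset.univ.filter fun z => R.Adj z x).card := by
      simp only [nb, Finset.card_filter]
      exact Finset.sum_comm
    simp only [card_nb, hin, Finset.sum_const, Finset.card_univ, R.card, smul_eq_mul] at e
    omega
  have hinv : ∀ (h : stabilizer R.G R.a) (z : Ω), z ∈ inA → h • z ∈ inA := by
    intro h z hz
    simp only [inA, Finset.mem_filter, Finset.mem_univ, true_and] at hz ⊢
    have := (R.adj_smul h.1 z R.a).2 hz
    rwa [show h.1 • R.a = R.a from h.2] at this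
  have hPin : inA = R.PP := by
    by_cases he : ∃ z ∈ inA, z ∈ R.PP
    · obtain ⟨z, hz, hzP⟩ := he
      refine (Finset.eq_of_subset_of_card_le (fun w hw => ?_) (by rw [hcount, card_PP])).symm
      have := MulAction.orbit_eq_iff.2 (R.mem_PP.1 hzP)
      rw [mem_PP, ← this] at hw
      obtain ⟨h, rfl⟩ := hw
      exact hinv h z hz
    · exfalso
      obtain ⟨z, hz⟩ := Finset.card_pos.1 (show 0 < inA.card by omega)
      have hzQ : z ∈ R.QQ := by
        rcases R.cover z with rfl | h | h
        · exact absurd (R.nb_a ▸ R.mem_nb.2 (Finset.mem_filter.1 hz).2) R.a_notMem_PP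
        · exact absurd ⟨z, hz, h⟩ he
        · exact h
      have hsub : R.QQ ⊆ inA := fun w hw => by
        rw [mem_QQ, ← MulAction.orbit_eq_iff.2 (R.mem_QQ.1 hzQ)] at hw
        obtain ⟨h, rfl⟩ := hw
        exact hinv h z hz
      have := Finset.card_le_card hsub
      rw [hcount, card_QQ] at this
      omega
  obtain ⟨g, rfl⟩ := R.trans R.a x
  obtain ⟨w, rfl⟩ : ∃ w, g • w = y := ⟨g⁻¹ • y, smul_inv_smul g y⟩
  rw [adj_smul] at h ⊢
  have : w ∈ inA := by rw [hPin, ← nb_a]; exact R.mem_nb.2 h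
  exact (Finset.mem_filter.1 this).2

theorem adj_comm (x y : Ω) : R.Adj x y ↔ R.Adj y x := ⟨R.adj_symm, R.adj_symm⟩

theorem adj_irrefl (x : Ω) : ¬R.Adj x x := by
  intro h
  obtain ⟨g, rfl⟩ := R.trans R.a x
  rw [adj_smul] at h
  exact R.a_notMem_PP (R.nb_a ▸ R.mem_nb.2 h)

/-- The action of the model. -/
noncomputable def act (σ : GP) : R.G := (R.iso σ).1

theorem act_a (σ : GP) : R.act σ • R.a = R.a := (R.iso σ).2

theorem act_mem_PP (σ : GP) {x : Ω} (h : x ∈ R.PP) : R.act σ • x ∈ R.PP := by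
  rw [mem_PP] at h ⊢
  obtain ⟨g, rfl⟩ := h
  exact ⟨R.iso σ * g, mul_smul (R.iso σ) g R.b⟩

theorem act_mem_QQ (σ : GP) {x : Ω} (h : x ∈ R.QQ) : R.act σ • x ∈ R.QQ := by
  rw [mem_QQ] at h ⊢
  obtain ⟨g, rfl⟩ := h
  exact ⟨R.iso σ * g, mul_smul (R.iso σ) g R.c⟩

theorem exists_act_QQ {x y : Ω} (hx : x ∈ R.QQ) (hy : y ∈ R.QQ) : ∃ σ : GP, R.act σ • x = y := by
  rw [mem_QQ] at hy hx
  rw [← MulAction.orbit_eq_iff.2 hx] at hy
  obtain ⟨g, rfl⟩ := hy
  exact ⟨R.iso.symm g, by rw [act, MulEquiv.apply_symm_apply]; rfl⟩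

theorem exists_param : ∃ φ : Fin 112 → Ω, Function.Injective φ ∧ Finset.univ.image φ = R.PP ∧
    ∀ (σ : GP) (i : Fin 112), φ ((σ : Equiv.Perm (Fin 112)) i) = R.act σ • φ i := by
  classical
  letI : MulAction GP Ω := MulAction.compHom Ω ((stabilizer R.G R.a).subtype.comp R.iso.toMonoidHom)
  have ho : orbit GP R.b = orbit (stabilizer R.G R.a) R.b := by
    ext x
    constructor
    · rintro ⟨σ, rfl⟩; exact ⟨R.iso σ, rfl⟩
    · rintro ⟨g, rfl⟩
      refine ⟨R.iso.symm g, ?_⟩
      show ((R.iso (R.iso.symm g)).1 • R.b) = g.1 • R.b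
      rw [MulEquiv.apply_symm_apply]
  obtain ⟨φ, h1, h2, h3⟩ := exists_natural R.b (by rw [ho]; exact R.hb)
  refine ⟨φ, h1, ?_, h3⟩
  ext x
  rw [mem_PP, ← ho, ← h2]
  simp [Set.mem_range]

/-- The 112 points numbered. -/
noncomputable def pP : Fin 112 → Ω := R.exists_param.choose

theorem pP_inj : Function.Injective R.pP := R.exists_param.choose_spec.1

theorem image_pP : Finset.univ.image R.pP = R.PP := R.exists_param.choose_spec.2.1

theorem pP_act (σ : GP) (i : Fin 112) : R.pP ((σ : Equiv.Perm (Fin 112)) i) = R.act σ • R.pP i :=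
  R.exists_param.choose_spec.2.2 σ i

theorem pP_mem (i : Fin 112) : R.pP i ∈ R.PP := R.image_pP ▸ Finset.mem_image_of_mem _ (Finset.mem_univ i)

open scoped _root_.Classical in
/-- The neighbours of `x` among the 112 points. -/
noncomputable def inP (x : Ω) : Finset (Fin 112) := Finset.univ.filter fun i => R.Adj x (R.pP i)

theorem mem_inP {x : Ω} {i : Fin 112} : i ∈ R.inP x ↔ R.Adj x (R.pP i) := by simp [inP]

theorem card_inP (x : Ω) : (R.inP x).card = (R.nb x ∩ R.PP).card := by
  classical
  rw [← Finset.card_image_of_injective _ R.pP_inj]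
  refine congrArg Finset.card (Finset.ext fun y => ?_)
  simp only [Finset.mem_image, Finset.mem_inter, mem_inP, mem_nb]
  constructor
  · rintro ⟨i, hi, rfl⟩; exact ⟨hi, R.pP_mem i⟩
  · rintro ⟨h1, h2⟩
    rw [← R.image_pP, Finset.mem_image] at h2
    obtain ⟨i, -, rfl⟩ := h2
    exact ⟨i, h1, rfl⟩

theorem adj_act (σ : GP) (x : Ω) (i : Fin 112) :
    R.Adj (R.act σ • x) (R.pP ((σ : Equiv.Perm (Fin 112)) i)) ↔ R.Adj x (R.pP i) := by
  rw [pP_act, adj_smul]

theorem inP_act (σ : GP) (x : Ω) : (R.inP (R.act σ • x)).card = (R.inP x).card := by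
  classical
  rw [← Finset.card_image_of_injective (R.inP x) (σ : Equiv.Perm (Fin 112)).injective]
  refine congrArg Finset.card (Finset.ext fun i => ?_)
  simp only [Finset.mem_image, mem_inP]
  constructor
  · intro h
    obtain ⟨j, rfl⟩ := (σ : Equiv.Perm (Fin 112)).surjective i
    exact ⟨j, (R.adj_act σ x j).1 h, rfl⟩
  · rintro ⟨j, hj, rfl⟩
    exact (R.adj_act σ x j).2 hj

theorem split_card (T : Finset Ω) :
    T.card = (if R.a ∈ T then 1 else 0) + (T ∩ R.PP).card + (T ∩ R.QQ).card := by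
  classical
  have e : T = (T ∩ {R.a}) ∪ ((T ∩ R.PP) ∪ (T ∩ R.QQ)) := by
    ext x
    simp only [Finset.mem_union, Finset.mem_inter, Finset.mem_singleton]
    constructor
    · intro hx
      rcases R.cover x with h | h | h
      · exact Or.inl ⟨hx, h⟩
      · exact Or.inr (Or.inl ⟨hx, h⟩)
      · exact Or.inr (Or.inr ⟨hx, h⟩)
    · rintro (h | h | h) <;> exact h.1
  conv_lhs => rw [e]
  rw [Finset.card_union_of_disjoint, Finset.card_union_of_disjoint, add_assoc]
  · congr 1
    by_cases h : R.a ∈ T <;> simp [h]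
  · exact Finset.disjoint_of_subset_left Finset.inter_subset_right
      (Finset.disjoint_of_subset_right Finset.inter_subset_right R.disjoint_PQ)
  · rw [Finset.disjoint_left]
    intro x h1 h2
    simp only [Finset.mem_inter, Finset.mem_singleton, Finset.mem_union] at h1 h2
    rw [h1.2] at h2
    rcases h2 with h2 | h2
    · exact R.a_notMem_PP h2.2
    · exact R.a_notMem_QQ h2.2

theorem a_mem_nb_iff (x : Ω) : R.a ∈ R.nb x ↔ x ∈ R.PP := by
  rw [mem_nb, adj_comm, ← mem_nb, nb_a]

/-- Collinearity is the adjacency among the 112 points, and the other points are adjacent to 56 of them. -/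
theorem local_structure : (∀ i j, R.Adj (R.pP i) (R.pP j) ↔ nearP i j = true) ∧
    ∀ q ∈ R.QQ, (R.inP q).card = 56 := by
  classical
  let t : Fin 112 → Prop := fun i => R.Adj (R.pP p0) (R.pP i)
  have htH : ∀ σ ∈ genGroup 112 gensH, ∀ i, t (σ i) ↔ t i := fun σ hσ i => by
    have h := R.adj_act ⟨σ, genH_le hσ⟩ (R.pP p0) i
    rw [← R.pP_act] at h
    simp only [genH_fix σ hσ] at h
    exact h
  have hrepN : repNear < 112 := by decide +kernel
  have hrepF : repFar < 112 := by decide +kernel
  have hn : ∀ i : Fin 112, (aRow 0).testBit i = true → (t i ↔ t ⟨repNear, hrepN⟩) := fun i hi => by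
    obtain ⟨σ, hσ, rfl⟩ := orbit_reach gensH_valid (r := ⟨repNear, hrepN⟩) near_ok i hi
    exact htH σ hσ _
  have hf : ∀ i : Fin 112, maskFar.testBit i = true → (t i ↔ t ⟨repFar, hrepF⟩) := fun i hi => by
    obtain ⟨σ, hσ, rfl⟩ := orbit_reach gensH_valid (r := ⟨repFar, hrepF⟩) far_ok i hi
    exact htH σ hσ _
  set tn : Bool := decide (t ⟨repNear, hrepN⟩) with htn
  set tf : Bool := decide (t ⟨repFar, hrepF⟩) with htf
  have ht : R.inP (R.pP p0) = Finset.univ.filter fun i : Fin 112 =>
      (i : ℕ) ≠ 0 ∧ ((tn && (aRow 0).testBit i) || (tf && maskFar.testBit i)) = true := by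
    ext i
    simp only [mem_inP, Finset.mem_filter, Finset.mem_univ, true_and, Bool.or_eq_true, Bool.and_eq_true,
      htn, htf, decide_eq_true_iff]
    by_cases hi : i = p0
    · subst hi
      exact iff_of_false (R.adj_irrefl _) fun h => h.1 rfl
    · constructor
      · intro h
        refine ⟨fun h0 => hi (Fin.ext h0), ?_⟩
        rcases near_far i hi with h' | h'
        · exact Or.inl ⟨(hn i h').1 h, h'⟩
        · exact Or.inr ⟨(hf i h').1 h, h'⟩
      · rintro ⟨-, ⟨h, h'⟩ | ⟨h, h'⟩⟩
        · exact (hn i h').2 h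
        · exact (hf i h').2 h
  have hcases : ∀ u v : Bool, (Finset.univ.filter fun i : Fin 112 =>
      (i : ℕ) ≠ 0 ∧ ((u && (aRow 0).testBit i) || (v && maskFar.testBit i)) = true).card =
      (if u then 30 else 0) + (if v then 81 else 0) := by decide +kernel
  set lam := (R.inP (R.pP p0)).card with hlam
  have hlam' : lam = (if tn then 30 else 0) + (if tf then 81 else 0) := by rw [hlam, ht, hcases]
  have hlamall : ∀ i, (R.inP (R.pP i)).card = lam := fun i => by
    obtain ⟨σ, hσ, rfl⟩ := GP_trans i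
    show (R.inP (R.pP ((⟨σ, hσ⟩ : GP).1 p0))).card = _
    rw [R.pP_act, R.inP_act]
  set mu := (R.inP R.c).card with hmu
  have hc : R.c ∈ R.QQ := R.mem_QQ.2 (mem_orbit_self _)
  have hmuall : ∀ q ∈ R.QQ, (R.inP q).card = mu := fun q hq => by
    obtain ⟨σ, rfl⟩ := R.exists_act_QQ hc hq
    exact R.inP_act σ _
  have houtQ : ∀ i, (R.nb (R.pP i) ∩ R.QQ).card + 1 + lam = 112 := fun i => by
    have h := R.split_card (R.nb (R.pP i))
    rw [R.card_nb, if_pos ((R.a_mem_nb_iff _).2 (R.pP_mem i)), ← R.card_inP, hlamall] at h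
    omega
  have hdc : ∑ i : Fin 112, (R.nb (R.pP i) ∩ R.QQ).card = ∑ q ∈ R.QQ, (R.inP q).card := by
    have e1 : ∀ i, R.nb (R.pP i) ∩ R.QQ = R.QQ.filter fun q => R.Adj q (R.pP i) := fun i => by
      ext q
      simp only [Finset.mem_inter, Finset.mem_filter, mem_nb, R.adj_comm (R.pP i)]
      exact and_comm
    simp only [e1, inP, Finset.card_filter]
    exact Finset.sum_comm
  have heq : 112 * (111 - lam) = 162 * mu := by
    rw [Finset.sum_congr rfl hmuall, Finset.sum_const, R.card_QQ, smul_eq_mul,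
      Finset.sum_congr rfl (fun i _ => show (R.nb (R.pP i) ∩ R.QQ).card = 111 - lam by
        have := houtQ i; omega), Finset.sum_const, Finset.card_univ, Fintype.card_fin, smul_eq_mul] at hdc
    exact hdc
  have hne : ¬(tn = true ∧ tf = true) := by
    rintro ⟨h1, h2⟩
    have hall : ∀ i j, i ≠ j → R.Adj (R.pP i) (R.pP j) := fun i j hij => by
      obtain ⟨σ, hσ, rfl⟩ := GP_trans i
      obtain ⟨k, rfl⟩ := σ.surjective j
      have hk : k ∈ R.inP (R.pP p0) := by
        rw [ht]
        simp only [Finset.mem_filter, Finset.mem_univ, true_and, h1, h2, Bool.true_and, Bool.or_eq_true]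
        exact ⟨fun h => hij (by rw [show k = p0 from Fin.ext h]),
          near_far k fun h => hij (by rw [h])⟩
      have h := (R.adj_act ⟨σ, hσ⟩ (R.pP p0) k).2 (R.mem_inP.1 hk)
      rwa [← R.pP_act] at h
    let B : Finset Ω := insert R.a R.PP
    have hB : ∀ x ∈ B, insert x (R.nb x) = B := by
      intro x hx
      rcases Finset.mem_insert.1 hx with rfl | hx
      · rw [nb_a]
      · have hsub : B.erase x ⊆ R.nb x := by
          intro y hyB
          obtain ⟨hyx, hyI⟩ := Finset.mem_erase.1 hyB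
          rcases Finset.mem_insert.1 hyI with rfl | hyP
          · exact (R.a_mem_nb_iff x).2 hx
          · rw [← R.image_pP, Finset.mem_image] at hx hyP
            obtain ⟨i, -, rfl⟩ := hx
            obtain ⟨j, -, rfl⟩ := hyP
            exact R.mem_nb.2 (hall i j fun e => hyx (by rw [e]))
        have hxB : x ∈ B := Finset.mem_insert_of_mem hx
        have := Finset.eq_of_subset_of_card_le hsub (by
          rw [R.card_nb, Finset.card_erase_of_mem hxB, Finset.card_insert_of_notMem R.a_notMem_PP,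
            R.card_PP])
        rw [← this, Finset.insert_erase hxB]
    let T : Subgroup R.G :=
      { carrier := {g | ∀ x, g • x ∈ B ↔ x ∈ B}
        mul_mem' := fun {g h} hg hh x => by rw [mul_smul]; exact (hg _).trans (hh x)
        one_mem' := fun x => by rw [one_smul]
        inv_mem' := fun {g} hg x => by
          have := hg (g⁻¹ • x)
          rwa [smul_inv_smul, Iff.comm] at this }
    have hT : ∀ g : R.G, g • R.a ∈ B → g ∈ T := by
      intro g hg x
      have e := hB _ hg
      rw [nb_smul, nb_a, ← Finset.image_insert] at e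
      conv_lhs => rw [← e]
      exact (MulAction.injective g).mem_finset_image
    have horb : orbit T R.a = ↑B := by
      ext x
      constructor
      · rintro ⟨g, rfl⟩
        exact (g.2 R.a).2 (Finset.mem_insert_self _ _)
      · intro hx
        obtain ⟨g, rfl⟩ := R.trans R.a x
        exact ⟨⟨g, hT g hx⟩, rfl⟩
    have hst : Nat.card (stabilizer T R.a) = Nat.card (stabilizer R.G R.a) := Nat.card_congr
      { toFun := fun g => ⟨g.1.1, g.2⟩
        invFun := fun g => ⟨⟨g.1, hT g.1 (by
          rw [show g.1 • R.a = R.a from g.2]; exact Finset.mem_insert_self _ _)⟩, g.2⟩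
        left_inv := fun _ => rfl
        right_inv := fun _ => rfl }
    have h113 := card_orbit_mul_stab (M := T) R.a
    rw [horb, Set.ncard_coe_finset, Finset.card_insert_of_notMem R.a_notMem_PP, R.card_PP, hst] at h113
    have hG := card_orbit_mul_stab (M := R.G) R.a
    rw [show orbit R.G R.a = Set.univ from Set.eq_univ_of_forall fun x => R.trans R.a x,
      Set.ncard_univ, Nat.card_eq_fintype_card, R.card] at hG
    have hd := Subgroup.card_subgroup_dvd_card T
    rw [← h113, ← hG] at hd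
    have := Nat.le_of_dvd (by norm_num) (Nat.dvd_of_mul_dvd_mul_right Nat.card_pos hd : 113 ∣ 275)
    exact absurd (Nat.dvd_of_mul_dvd_mul_right Nat.card_pos hd : 113 ∣ 275) (by norm_num)
  have hval : tn = true ∧ tf = false := by
    revert hlam' hne
    cases tn <;> cases tf <;> simp <;> omega
  refine ⟨fun i j => ?_, fun q hq => ?_⟩
  · obtain ⟨σ, hσ, rfl⟩ := GP_trans i
    obtain ⟨k, rfl⟩ := σ.surjective j
    rw [nearP_GP hσ, show R.pP (σ p0) = R.act ⟨σ, hσ⟩ • R.pP p0 from R.pP_act ⟨σ, hσ⟩ p0,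
      R.adj_act ⟨σ, hσ⟩ (R.pP p0) k, ← mem_inP, ht, hval.1, hval.2]
    simp only [Finset.mem_filter, Finset.mem_univ, true_and, Bool.true_and, Bool.false_and, Bool.or_false]
    refine ⟨fun h => h.2, fun h => ⟨fun h0 => ?_, h⟩⟩
    rw [show k = p0 from Fin.ext h0, (nearP_facts p0 p0).2.1] at h
    exact Bool.false_ne_true h
  · rw [hmuall q hq]
    rw [hlam', hval.1, hval.2] at heq
    simp at heq
    omega

theorem near_iff (i j : Fin 112) : R.Adj (R.pP i) (R.pP j) ↔ nearP i j = true := R.local_structure.1 i j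

theorem inP_pP (i : Fin 112) : (R.inP (R.pP i)).card = 30 := by
  rw [← (nearP_facts i i).1]
  exact congrArg Finset.card (Finset.ext fun j => by simp [mem_inP, near_iff])

theorem card_common {x y : Ω} (h : R.Adj x y) : (R.nb x ∩ R.nb y).card = 30 := by
  obtain ⟨g, rfl⟩ := R.trans R.a x
  obtain ⟨w, rfl⟩ : ∃ w, g • w = y := ⟨g⁻¹ • y, smul_inv_smul g y⟩
  rw [adj_smul, ← mem_nb, nb_a, ← R.image_pP, Finset.mem_image] at h
  obtain ⟨i, -, rfl⟩ := h
  rw [nb_smul, nb_smul, ← Finset.image_inter _ _ (MulAction.injective g),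
    Finset.card_image_of_injective _ (MulAction.injective g), nb_a, Finset.inter_comm, ← card_inP, inP_pP]

open scoped _root_.Classical in
theorem card_QQ_common {i j : Fin 112} (h : nearP i j = true) :
    (R.QQ.filter fun q => R.Adj q (R.pP i) ∧ R.Adj q (R.pP j)).card = 27 := by
  classical
  have h30 := R.card_common ((R.near_iff i j).2 h)
  rw [R.split_card, if_pos (Finset.mem_inter.2 ⟨(R.a_mem_nb_iff _).2 (R.pP_mem i),
    (R.a_mem_nb_iff _).2 (R.pP_mem j)⟩)] at h30
  have hP : (R.nb (R.pP i) ∩ R.nb (R.pP j) ∩ R.PP).card = 2 := by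
    rw [← (nearP_facts i j).2.2.2 h, ← Finset.card_image_of_injective
      (Finset.univ.filter fun z : Fin 112 => (nearP i z && nearP j z) = true) R.pP_inj]
    refine congrArg Finset.card (Finset.ext fun y => ?_)
    simp only [Finset.mem_image, Finset.mem_inter, Finset.mem_filter, Finset.mem_univ, true_and,
      mem_nb, Bool.and_eq_true]
    constructor
    · rintro ⟨⟨h1, h2⟩, h3⟩
      rw [← R.image_pP, Finset.mem_image] at h3
      obtain ⟨z, -, rfl⟩ := h3
      exact ⟨z, ⟨(R.near_iff i z).1 h1, (R.near_iff j z).1 h2⟩, rfl⟩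
    · rintro ⟨z, ⟨h1, h2⟩, rfl⟩
      exact ⟨⟨(R.near_iff i z).2 h1, (R.near_iff j z).2 h2⟩, R.pP_mem z⟩
  have hQ : (R.QQ.filter fun q => R.Adj q (R.pP i) ∧ R.Adj q (R.pP j)) =
      R.nb (R.pP i) ∩ R.nb (R.pP j) ∩ R.QQ := by
    ext q
    simp only [Finset.mem_filter, Finset.mem_inter, mem_nb, R.adj_comm q]
    exact and_comm
  rw [hQ]
  omega

open scoped _root_.Classical in
/-- The set of 56 points of a point. -/
noncomputable def setOf' (q : Ω) (i : Fin 112) : Bool := decide (R.Adj q (R.pP i))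

open scoped _root_.Classical in
/-- The ordered collinear pairs in the set of 56. -/
noncomputable def pairCount (q : Ω) : ℕ :=
  ∑ i, ∑ j, (R.setOf' q i).toNat * (R.setOf' q j).toNat * (nearP i j).toNat

theorem setOf_act (σ : GP) (q : Ω) (i : Fin 112) :
    R.setOf' (R.act σ • q) ((σ : Equiv.Perm (Fin 112)) i) = R.setOf' q i := by
  classical
  simp only [setOf']
  exact decide_eq_decide.2 (R.adj_act σ q i)

theorem pairCount_act (σ : GP) (q : Ω) : R.pairCount (R.act σ • q) = R.pairCount q := by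
  unfold pairCount
  rw [← Equiv.sum_comp (σ : Equiv.Perm (Fin 112))]
  refine Finset.sum_congr rfl fun i _ => ?_
  rw [← Equiv.sum_comp (σ : Equiv.Perm (Fin 112))]
  exact Finset.sum_congr rfl fun j _ => by rw [setOf_act, setOf_act, nearP_GP σ.2]

/-- The set of 56 of each of the 162 points meets every line in two points. -/
theorem pairCount_eq {q : Ω} (hq : q ∈ R.QQ) : R.pairCount q = 560 := by
  classical
  have hconst : ∀ q' ∈ R.QQ, R.pairCount q' = R.pairCount q := fun q' hq' => by
    obtain ⟨σ, rfl⟩ := R.exists_act_QQ hq hq'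
    exact R.pairCount_act σ q
  have hterm : ∀ i j : Fin 112, ∑ q' ∈ R.QQ, (R.setOf' q' i).toNat * (R.setOf' q' j).toNat * (nearP i j).toNat =
      27 * (nearP i j).toNat := by
    intro i j
    cases hb : nearP i j with
    | false => simp
    | true =>
      rw [← R.card_QQ_common hb, Finset.card_filter]
      simp only [Bool.toNat_true, mul_one]
      refine Finset.sum_congr rfl fun q' _ => ?_
      by_cases h1 : R.Adj q' (R.pP i) <;> by_cases h2 : R.Adj q' (R.pP j) <;> simp [setOf', h1, h2]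
  have hrow : ∀ i : Fin 112, ∑ j, (nearP i j).toNat = 30 := fun i => by
    rw [← (nearP_facts i i).1, Finset.card_filter]
    exact Finset.sum_congr rfl fun j _ => by cases nearP i j <;> rfl
  have htot : ∑ q' ∈ R.QQ, R.pairCount q' = 27 * 3360 := by
    unfold pairCount
    rw [Finset.sum_comm]
    refine (Finset.sum_congr rfl fun i _ => ?_).trans
      (show ∑ _i : Fin 112, 27 * 30 = 27 * 3360 by simp)
    rw [Finset.sum_comm, Finset.sum_congr rfl fun j _ => hterm i j, ← Finset.mul_sum, hrow]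
  rw [Finset.sum_congr rfl hconst, Finset.sum_const, R.card_QQ, smul_eq_mul] at htot
  omega

theorem classified {q : Ω} (hq : q ∈ R.QQ) :
    ∃ (k : Fin 4) (j : Fin 162), ∀ i, R.setOf' q (sigP k i) = (mSet j).testBit i := by
  classical
  refine classify_sets (R.setOf' q) ?_ (R.pairCount_eq hq)
  rw [← R.local_structure.2 q hq, inP, Finset.card_filter]
  exact Finset.sum_congr rfl fun i _ => by by_cases h : R.Adj q (R.pP i) <;> simp [setOf', h]

end RankThree

end CfsgLib.Recog.McL275
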