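import Cfsg.Agent.Lib.Recog.McL275.Check
import Cfsg.Agent.Lib.Recog.McL275.DataGraph
import Cfsg.Agent.Lib.Recog.McL275.DataLocal
import Cfsg.Agent.Lib.Recog.McL275.DataSets
import Cfsg.Agent.Lib.KnownA.U4ThreeSchur.Model

/-! The tables of the 275-point recognition read from the packed data. -/

set_option autoImplicit false

namespace CfsgLib.Recog.McL275

open CfsgLib.KnownA.PermCert CfsgLib.KnownA.U4ThreeSchur

/-- An entry of a table in blocks of sixteen. -/
def entry16 (L : List (List ℕ)) (i : ℕ) : ℕ := (L.getD (i / 16) []).getD (i % 16) 0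

/-- The lines at a point. -/
def lMask (p : ℕ) : ℕ := entry16 lineMasks p

/-- The row of a point in the graph on 112 points. -/
def aRow (i : ℕ) : ℕ := entry16 rowsP i

/-- Collinearity of two of the 112 points. -/
def nearP (i j : Fin 112) : Bool := (aRow i).testBit j

/-- A set of 56 points. -/
def mSet (j : ℕ) : ℕ := entry16 setsQ j % 2 ^ 112

/-- The row of a vertex in the graph on 275 vertices. -/
def gRow (x : ℕ) : ℕ := entry16 rowsΓ x

/-- Adjacency in the graph on 275 vertices. -/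
def adjΓ (x y : Fin 275) : Bool := (gRow x).testBit y

/-- A line. -/
def lineAt (k : ℕ) : List ℕ :=
  bif Nat.blt k 280 then
    eagerN (entry16 linesP k) fun c => [c % 256, c >>> 8 % 256, c >>> 16 % 256, c >>> 24 % 256]
  else []

/-- The symmetry with a given number. -/
def sigAt (k : ℕ) : ℕ := sigmas.getD k 0

/-- A step along a generator. -/
def stepOK (gens : List ℕ) (x k y : ℕ) : Bool :=
  Nat.blt x 112 && Nat.blt k gens.length && Nat.beq (pimg (gens.getD k 0) x) y

theorem stepOK_sound {gens : List ℕ} (hv : ∀ c ∈ gens, valid 112 c = true) {x k y : ℕ}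
    (h : stepOK gens x k y = true) (r : Fin 112)
    (hx : ∃ σ ∈ genGroup 112 gens, ((σ r : Fin 112) : ℕ) = x) :
    ∃ σ ∈ genGroup 112 gens, ((σ r : Fin 112) : ℕ) = y := by
  simp only [stepOK, Bool.and_eq_true, Nat.blt_eq] at h
  obtain ⟨⟨-, hk⟩, hy⟩ := h
  obtain ⟨σ, hσ, rfl⟩ := hx
  have hm : gens.getD k 0 ∈ gens := by
    rw [List.getD_eq_getElem _ _ hk]; exact List.getElem_mem _
  refine ⟨permOf 112 (gens.getD k 0) * σ, mul_mem (mem_genGroup hm) hσ, ?_⟩
  rw [Equiv.Perm.mul_apply, permOf_val (hv _ hm)]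
  exact Nat.eq_of_beq_eq_true hy

theorem orbit_reach {gens : List ℕ} (hv : ∀ c ∈ gens, valid 112 c = true)
    {L : List (ℕ × ℕ × ℕ)} {r : Fin 112} {W : ℕ} (h : closesTo (stepOK gens) L r W = true)
    (i : Fin 112) (hi : W.testBit i = true) : ∃ σ ∈ genGroup 112 gens, σ r = i := by
  obtain ⟨σ, hσ, e⟩ := closesTo_sound (P := fun m => ∃ σ ∈ genGroup 112 gens, ((σ r : Fin 112) : ℕ) = m) h
    (fun x k y hok hx => stepOK_sound hv hok r hx) ⟨1, one_mem _, rfl⟩ i hi
  exact ⟨σ, hσ, Fin.ext e⟩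

end CfsgLib.Recog.McL275
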